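import Mathlib.Algebra.Order.BigOperators.Group.Finset
import Mathlib.Data.Nat.Prime.Infinite
import Mathlib.Algebra.Module.Basic
import Mathlib.Algebra.BigOperators.Ring.Finset
import Mathlib.Tactic.Ring
import Mathlib.Tactic.Linarith

/-!
# The arithmetic of the perturbation
-/

set_option autoImplicit false
universe u

namespace Groth.Agent.H06Font

/-- Choice of the perturbation: a prime `N`, an exponent `R` and `s ≤ 1`, with `T = R e + s N`. -/
theorem exists_shift (p e U K q n : ℕ) (hp : 2 ≤ p) (he : 0 < e) (hK : K < (p - 1) * U) (hU : 2 ≤ U)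
    (hq : 2 ≤ q) (hqn : q ≤ n) :
    ∃ N R s : ℕ, N.Prime ∧ n < N ∧ e < N ∧ s ≤ 1 ∧ R * e + s * N < N * U ∧ N * (U - 1) < R * e + s * N ∧
      ¬ q ∣ N * U - (R * e + s * N) ∧ N * K < (p - 1) * (R * e + s * N) := by
  obtain ⟨N, hN, hNp⟩ := Nat.exists_infinite_primes (n + 3 * p * e + 1)
  obtain ⟨V, rfl⟩ : ∃ V, U = V + 1 + 1 := ⟨U - 2, by omega⟩
  obtain ⟨P, hP, rfl⟩ : ∃ P, 1 ≤ P ∧ p = P + 1 := ⟨p - 1, by omega, by omega⟩
  simp only [Nat.add_sub_cancel] at *
  have hNe : 2 * e + 1 ≤ N := by nlinarith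
  have good : ∀ R s, s ≤ 1 → R * e + s * N < N * (V + 1 + 1) → N * (V + 1 + 1) ≤ R * e + s * N + 2 * e →
      N * (V + 1) < R * e + s * N ∧ N * K < P * (R * e + s * N) := by
    intro R s _ h1 h2
    refine ⟨by nlinarith, ?_⟩
    have h4 : N * (K + 1) ≤ P * (N * (V + 1 + 1)) := by
      rw [mul_left_comm]; exact Nat.mul_le_mul_left N hK
    have h5 : P * (N * (V + 1 + 1)) ≤ P * (R * e + s * N + 2 * e) := Nat.mul_le_mul_left P h2
    have h6 : P * (2 * e) < N := by nlinarith
    nlinarith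
  obtain ⟨k0, r0, hr0, hk0⟩ : ∃ k r, r < e ∧ N * (V + 1 + 1) - 1 = k * e + r :=
    ⟨_, _, Nat.mod_lt _ he, (Nat.div_add_mod' _ e).symm⟩
  obtain ⟨k1, r1, hr1, hk1⟩ : ∃ k r, r < e ∧ N * (V + 1) - 1 = k * e + r :=
    ⟨_, _, Nat.mod_lt _ he, (Nat.div_add_mod' _ e).symm⟩
  have hV1 : N ≤ N * (V + 1) := Nat.le_mul_of_pos_right _ (by omega)
  have hV2 : N * (V + 1 + 1) = N * (V + 1) + N := by ring
  obtain ⟨j0, rfl⟩ : ∃ j, k0 = j + 1 := ⟨k0 - 1, by rcases Nat.eq_zero_or_pos k0 with rfl | h <;> simp at * <;> omega⟩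
  obtain ⟨j1, rfl⟩ : ∃ j, k1 = j + 1 := ⟨k1 - 1, by rcases Nat.eq_zero_or_pos k1 with rfl | h <;> simp at * <;> omega⟩
  rw [add_mul, one_mul] at hk0 hk1
  have c0 := good (j0 + 1) 0 (by omega) (by rw [zero_mul, add_mul, one_mul]; omega) (by rw [zero_mul, add_mul, one_mul]; omega)
  have d0 := good j0 0 (by omega) (by rw [zero_mul]; omega) (by rw [zero_mul]; omega)
  have c1 := good (j1 + 1) 1 le_rfl (by rw [one_mul, add_mul, one_mul]; omega) (by rw [one_mul, add_mul, one_mul]; omega)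
  have d1 := good j1 1 le_rfl (by rw [one_mul]; omega) (by rw [one_mul]; omega)
  by_contra hnone
  push Not at hnone
  have use' : ∀ R s, s ≤ 1 → R * e + s * N < N * (V + 1 + 1) → N * (V + 1) < R * e + s * N →
      N * K < P * (R * e + s * N) → q ∣ N * (V + 1 + 1) - (R * e + s * N) := by
    intro R s hs h1 h2 h3
    by_contra hd
    exact absurd (hnone N R s hNp (by omega) (by omega) hs h1 h2 hd) (not_le.2 h3)
  have a0 := use' _ 0 (by omega) (by rw [zero_mul, add_mul, one_mul]; omega) c0.1 c0.2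
  have b0 := use' _ 0 (by omega) (by rw [zero_mul]; omega) d0.1 d0.2
  have a1 := use' _ 1 le_rfl (by rw [one_mul, add_mul, one_mul]; omega) c1.1 c1.2
  have b1 := use' _ 1 le_rfl (by rw [one_mul]; omega) d1.1 d1.2
  simp only [zero_mul, one_mul, add_zero, add_mul] at a0 b0 a1 b1
  have hqe : q ∣ e := by
    have := Nat.dvd_sub b0 a0
    rwa [show N * (V + 1 + 1) - j0 * e - (N * (V + 1 + 1) - (j0 * e + e)) = e by omega] at this
  have hk : ∀ k, q ∣ k * e := fun k => hqe.mul_left k
  have h0 : q ∣ N * (V + 1 + 1) := by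
    have := Nat.dvd_add b0 (hk j0)
    rwa [show N * (V + 1 + 1) - j0 * e + j0 * e = N * (V + 1 + 1) by omega] at this
  have h1 : q ∣ N * (V + 1) := by
    have := Nat.dvd_add b1 (hk j1)
    rwa [show N * (V + 1 + 1) - (j1 * e + N) + j1 * e = N * (V + 1) by omega] at this
  have hqN : q ∣ N := (Nat.dvd_add_right h1).1 (hV2 ▸ h0)
  rcases (Nat.dvd_prime hNp).1 hqN with h | h <;> omega

variable {G : Type u} [Fintype G] [DecidableEq G] (one : G) (I : G → ℕ)

theorem sum_min_le (t h : ℕ) :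
    ∑ g ∈ Finset.univ.erase one, min t (h * I g) ≤ ((Finset.univ.erase one).filter fun g => 1 ≤ I g).card * t := by
  rw [← Finset.sum_filter_add_sum_filter_not _ (fun g => 1 ≤ I g)]
  have h2 : ∑ g ∈ (Finset.univ.erase one).filter (fun g => ¬ 1 ≤ I g), min t (h * I g) = 0 :=
    Finset.sum_eq_zero fun g hg => by
      have := (Finset.mem_filter.1 hg).2
      rw [show I g = 0 by omega, mul_zero, Nat.min_zero]
  rw [h2, add_zero]
  exact (Finset.sum_le_card_nsmul _ _ t fun g _ => min_le_left _ _).trans_eq (smul_eq_mul _ _)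

/-- The value `T` is not taken by the Herbrand function at an integer. -/
theorem herbrand_false (N t T istar : ℕ) (hmax : ∀ g ≠ one, I g ≤ istar) (hi : 1 ≤ istar)
    (hT : T = t + ∑ g ∈ Finset.univ.erase one, min t (N * I g))
    (hlt : T < N * (istar + ∑ g ∈ Finset.univ.erase one, I g))
    (hgt : N * (istar + ∑ g ∈ Finset.univ.erase one, I g - 1) < T)
    (hdvd : ¬ ((Finset.univ.erase one).filter fun g => I g = istar).card + 1 ∣
      N * (istar + ∑ g ∈ Finset.univ.erase one, I g) - T) : False := by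
  obtain ⟨i, rfl⟩ : ∃ i, istar = i + 1 := ⟨istar - 1, by omega⟩
  have hup : t < N * (i + 1) := by
    by_contra h
    have : ∑ g ∈ Finset.univ.erase one, min t (N * I g) = N * ∑ g ∈ Finset.univ.erase one, I g := by
      rw [Finset.mul_sum]
      refine Finset.sum_congr rfl fun g hg => min_eq_right ?_
      exact (Nat.mul_le_mul_left N (hmax g (Finset.ne_of_mem_erase hg))).trans (Nat.le_of_not_lt h)
    rw [mul_add] at hlt
    omega
  have hlow : N * i < t := by
    by_contra h
    have : ∑ g ∈ Finset.univ.erase one, min t (N * I g) ≤ N * ∑ g ∈ Finset.univ.erase one, I g := by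
      rw [Finset.mul_sum]
      exact Finset.sum_le_sum fun g _ => min_le_right _ _
    rw [show i + 1 + ∑ g ∈ Finset.univ.erase one, I g - 1 = i + ∑ g ∈ Finset.univ.erase one, I g by omega,
      mul_add] at hgt
    omega
  refine hdvd ⟨N * (i + 1) - t, ?_⟩
  have key : ∑ g ∈ Finset.univ.erase one, N * I g = (∑ g ∈ Finset.univ.erase one, min t (N * I g)) +
      ((Finset.univ.erase one).filter fun g => I g = i + 1).card * (N * (i + 1) - t) := by
    rw [← smul_eq_mul, ← Finset.sum_const, Finset.sum_filter, ← Finset.sum_add_distrib]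
    refine Finset.sum_congr rfl fun g hg => ?_
    by_cases hgi : I g = i + 1
    · rw [if_pos hgi, hgi, min_eq_left hup.le]; omega
    · rw [if_neg hgi, add_zero, min_eq_right]
      exact (Nat.mul_le_mul_left N (by have := hmax g (Finset.ne_of_mem_erase hg); omega : I g ≤ i)).trans hlow.le
  rw [mul_add, Finset.mul_sum, key, add_mul, one_mul]
  omega

end Groth.Agent.H06Font
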