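import Groth.Agent.H06Font.Nu
import Groth.Agent.H7Flat.FlatTransfer
import Mathlib.RingTheory.DedekindDomain.IntegralClosure
import Mathlib.RingTheory.RamificationInertia.Basic
import Mathlib.RingTheory.RamificationInertia.Ramification
import Mathlib.RingTheory.Henselian

/-!
# Integral closures of complete discrete valuation rings
-/

set_option autoImplicit false
set_option linter.style.haveILetI false
set_option linter.unusedSectionVars false
universe u

open IsLocalRing

namespace Groth.Agent.H06Font

section Closure

variable (O K : Type u) [CommRing O] [IsDomain O] [IsDiscreteValuationRing O]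
  [IsAdicComplete (maximalIdeal O) O] [Field K] [Algebra O K] [IsFractionRing O K]
  (M : Type u) [Field M] [Algebra K M] [Algebra O M] [IsScalarTower O K M]
  [FiniteDimensional K M] [Algebra.IsSeparable K M]

include K in
theorem closure_finite : Module.Finite O (integralClosure O M) :=
  IsIntegralClosure.finite O K M (integralClosure O M)

include K in
theorem closure_dvr : IsDiscreteValuationRing (integralClosure O M) := by
  haveI : HenselianLocalRing O := H9Hens.henselianLocalRing_of_henselianRing
  haveI : IsDedekindDomain (integralClosure O M) := IsIntegralClosure.isDedekindDomain O K M (integralClosure O M)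
  haveI : IsLocalRing (integralClosure O M) := H7Flat.FlatTransfer.isLocalRing_integralClosure O M
  haveI : Module.Finite O (integralClosure O M) := closure_finite O K M
  haveI : FaithfulSMul O M := (faithfulSMul_iff_algebraMap_injective O M).2 (by
    rw [IsScalarTower.algebraMap_eq O K M]
    exact (algebraMap K M).injective.comp (IsFractionRing.injective O K))
  have hnf : ¬ IsField (integralClosure O M) := fun hfld =>
    IsDiscreteValuationRing.not_isField O (isField_of_isIntegral_of_isField
      (FaithfulSMul.algebraMap_injective O (integralClosure O M)) hfld)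
  have h : IsDiscreteValuationRing (integralClosure O M) ↔ IsDedekindDomain (integralClosure O M) :=
    (IsDiscreteValuationRing.TFAE (integralClosure O M) hnf).out 0 2
  exact h.2 inferInstance

include K in
theorem closure_flat : Module.Flat O (integralClosure O M) := by
  haveI : Module.Finite O (integralClosure O M) := closure_finite O K M
  haveI : FaithfulSMul O M := (faithfulSMul_iff_algebraMap_injective O M).2 (by
    rw [IsScalarTower.algebraMap_eq O K M]
    exact (algebraMap K M).injective.comp (IsFractionRing.injective O K))
  haveI : Module.Free O (integralClosure O M) := inferInstance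
  infer_instance

theorem closure_finrank : Module.finrank O (integralClosure O M) = Module.finrank K M :=
  haveI : FaithfulSMul O M := (faithfulSMul_iff_algebraMap_injective O M).2 (by
    rw [IsScalarTower.algebraMap_eq O K M]
    exact (algebraMap K M).injective.comp (IsFractionRing.injective O K))
  haveI : Module.IsTorsionFree O M := inferInstance
  IsIntegralClosure.rank O K M (integralClosure O M)

end Closure

variable {O : Type*} [CommRing O] [IsDomain O] [IsDiscreteValuationRing O]
  {B : Type*} [CommRing B] [IsDomain B] [IsDiscreteValuationRing B] [Algebra O B]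

/-- The maximal ideal upstairs. -/
theorem map_maximalIdeal_eq (hinj : Function.Injective (algebraMap O B)) {ϖ : O} (hϖ : Irreducible ϖ) :
    (maximalIdeal O).map (algebraMap O B) = maximalIdeal B ^ nu (algebraMap O B ϖ) := by
  have h0 : algebraMap O B ϖ ≠ 0 := fun h => hϖ.ne_zero (hinj (by rw [h, map_zero]))
  rw [hϖ.maximalIdeal_eq, Ideal.map_span, Set.image_singleton]
  ext x
  rw [Ideal.mem_span_singleton, dvd_iff_nu_le h0, mem_pow_iff]

theorem liesOver_maximalIdeal [Algebra.IsIntegral O B] :
    (maximalIdeal B).LiesOver (maximalIdeal O) :=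
  ⟨(eq_maximalIdeal (Ideal.isMaximal_comap_of_isIntegral_of_isMaximal (maximalIdeal B))).symm⟩

theorem ramificationIdx_eq_nu [Algebra.IsIntegral O B] (hinj : Function.Injective (algebraMap O B))
    {ϖ : O} (hϖ : Irreducible ϖ) : (maximalIdeal B).ramificationIdx O = nu (algebraMap O B ϖ) := by
  haveI := liesOver_maximalIdeal (O := O) (B := B)
  have hne : (maximalIdeal O).map (algebraMap O B) ≠ ⊥ := by
    rw [map_maximalIdeal_eq hinj hϖ]
    exact pow_ne_zero _ (IsDiscreteValuationRing.not_a_field B)
  rw [Ideal.IsDedekindDomain.ramificationIdx_eq_multiplicity (maximalIdeal O) (maximalIdeal B) hne,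
    map_maximalIdeal_eq hinj hϖ]
  exact multiplicity_pow_self (IsDiscreteValuationRing.not_a_field B)
    (fun h => (maximalIdeal.isMaximal B).ne_top (Ideal.isUnit_iff.1 h)) _

/-- The ramification index is at most the degree. -/
theorem nu_le_finrank [Module.Finite O B] [Module.Flat O B] (hinj : Function.Injective (algebraMap O B))
    {ϖ : O} (hϖ : Irreducible ϖ) :
    nu (algebraMap O B ϖ) * (maximalIdeal B).inertiaDeg O = Module.finrank O B := by
  classical
  haveI := liesOver_maximalIdeal (O := O) (B := B)
  have huniq : ∀ q : (maximalIdeal O).primesOver B, q.1 = maximalIdeal B := fun q => by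
    haveI := q.2.1
    haveI := q.2.2
    exact eq_maximalIdeal (Ideal.IsMaximal.of_liesOver_isMaximal q.1 (maximalIdeal O))
  haveI : Fintype ((maximalIdeal O).primesOver B) :=
    haveI : Subsingleton ((maximalIdeal O).primesOver B) := ⟨fun q q' => Subtype.ext ((huniq q).trans (huniq q').symm)⟩
    Fintype.ofFinite _
  rw [← Ideal.sum_ramification_inertia_eq_finrank (maximalIdeal O) B,
    Finset.sum_eq_single_of_mem (⟨maximalIdeal B, inferInstance, inferInstance⟩ : (maximalIdeal O).primesOver B)
      (Finset.mem_univ _) (fun q _ hq => absurd (Subtype.ext (huniq q)) hq),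
    ramificationIdx_eq_nu hinj hϖ]

omit [Algebra O B] in
/-- Valuations along an extension. -/
theorem nu_map (ι : O →+* B) (hι : Function.Injective ι) [IsLocalHom ι] {ϖ : O} (hϖ : Irreducible ϖ)
    {x : O} (hx : x ≠ 0) : nu (ι x) = nu x * nu (ι ϖ) := by
  obtain ⟨k, u, rfl⟩ := IsDiscreteValuationRing.eq_unit_mul_pow_irreducible hx hϖ
  have h0 : ι ϖ ≠ 0 := fun h => hϖ.ne_zero (hι (by rw [h, map_zero]))
  have hk : nu (ϖ ^ k) = k := by
    rw [nu_pow hϖ.ne_zero, nu, IsDiscreteValuationRing.addVal_uniformizer hϖ]; simp
  rw [nu_mul u.ne_zero (pow_ne_zero k hϖ.ne_zero), nu_unit u.isUnit, hk, zero_add, map_mul, map_pow,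
    nu_mul (u.isUnit.map ι).ne_zero (pow_ne_zero k h0), nu_unit (u.isUnit.map ι), nu_pow h0, zero_add]

end Groth.Agent.H06Font
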