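import Groth.Agent.H06Font.Nu
import Groth.Prelude.Def_W4c1noabschz1DP
import Mathlib.RingTheory.DividedPowers.Padic
import Mathlib.RingTheory.DividedPowers.RatAlgebra
import Mathlib.RingTheory.Localization.FractionRing

/-!
# Divided powers on ideals of elements of large valuation
-/

set_option autoImplicit false
set_option linter.style.haveILetI false
universe u v

open IsLocalRing W4c1noabschz1
open scoped Nat

namespace Groth.Agent.H06Font

variable {R : Type v} [CommRing R] [IsDomain R] [IsDiscreteValuationRing R] [CharZero R]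
  (p : ℕ) [hp : Fact p.Prime] (hpm : (p : R) ∈ maximalIdeal R) {μ : ℕ} (hμ : nu (p : R) < (p - 1) * μ)

include hpm hμ in
/-- The divided powers of an element of valuation `≥ μ` exist and have valuation growing linearly. -/
theorem exists_factorial_mul_eq {x : R} (hx : x ∈ maximalIdeal R ^ μ) {k : ℕ} (hk : k ≠ 0) :
    ∃ y : R, (k ! : R) * y = x ^ k ∧ y ∈ maximalIdeal R ^ μ ∧ (y = 0 ∨ k ≤ (p - 1) * nu y) := by
  rcases eq_or_ne x 0 with rfl | hx0
  · exact ⟨0, by rw [mul_zero, zero_pow hk], zero_mem _, Or.inl rfl⟩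
  have hf : (k ! : R) ≠ 0 := Nat.cast_ne_zero.2 k.factorial_ne_zero
  have hxk : x ^ k ≠ 0 := pow_ne_zero k hx0
  replace hx : μ ≤ nu x := (mem_pow_iff.1 hx).resolve_left hx0
  have hP := nu_natCast (R := R) p hpm k.factorial_ne_zero
  have hL := sub_one_mul_padicValNat_factorial_lt_of_ne_zero (p := p) hk
  have hbound : (p - 1) * nu (k ! : R) + nu (p : R) ≤ k * nu (p : R) := by
    rw [hP, ← mul_assoc, ← Nat.succ_mul]
    exact Nat.mul_le_mul_right _ hL
  have hmain : (p - 1) * nu (k ! : R) + (k + (p - 1) * μ) ≤ (p - 1) * (k * nu x) + 1 := by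
    obtain ⟨j, rfl⟩ := Nat.exists_eq_succ_of_ne_zero hk
    have h1 : j * (nu (p : R) + 1) ≤ j * ((p - 1) * μ) := Nat.mul_le_mul_left _ hμ
    have h2 : (p - 1) * ((j + 1) * μ) ≤ (p - 1) * ((j + 1) * nu x) :=
      Nat.mul_le_mul_left _ (Nat.mul_le_mul_left _ hx)
    simp only [Nat.succ_eq_add_one, add_mul, one_mul, mul_add, Nat.mul_left_comm (p - 1) j] at *
    nlinarith
  obtain ⟨y, hy⟩ : (k ! : R) ∣ x ^ k := (dvd_iff_nu_le hf).2 (Or.inr (by
    rw [nu_pow hx0]
    by_contra hlt
    have : (p - 1) * (k * nu x + 1) ≤ (p - 1) * nu (k ! : R) := Nat.mul_le_mul_left _ (Nat.lt_of_not_le hlt)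
    rw [mul_add, mul_one] at this
    have := hp.out.two_le
    omega))
  have hy0 : y ≠ 0 := fun h => hxk (by rw [hy, h, mul_zero])
  have hnu : nu (k ! : R) + nu y = k * nu x := by rw [← nu_pow hx0, hy, nu_mul hf hy0]
  rw [← hnu, mul_add] at hmain
  have hp1 : 1 ≤ p - 1 := by have := hp.out.two_le; omega
  refine ⟨y, hy.symm, mem_pow_iff.2 (Or.inr ?_), Or.inr ?_⟩
  · by_contra hlt
    have : (p - 1) * (nu y + 1) ≤ (p - 1) * μ := Nat.mul_le_mul_left _ (Nat.lt_of_not_le hlt)
    rw [mul_add, mul_one] at this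
    have hk1 : 1 ≤ k := Nat.one_le_iff_ne_zero.2 hk
    omega
  · have : 0 < (p - 1) * μ := lt_of_le_of_lt (Nat.zero_le _) hμ
    omega

variable {C : Type u} [CommRing C] (ι : C →+* R) (hι : Function.Injective ι)
  (hdiv : ∀ (k : ℕ) (z : C) (y : R), k ≠ 0 → ι z = (k : R) * y → ∃ z', ι z' = y)

include hι hdiv hpm hμ in
theorem exists_factorial_mul_map_eq {x : C} (hx : x ∈ (maximalIdeal R ^ μ).comap ι) (n : ℕ) :
    ∃ z, (n ! : R) * ι z = ι x ^ n ∧ (n ≠ 0 → z ∈ (maximalIdeal R ^ μ).comap ι) ∧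
      (n ≠ 0 → ι z = 0 ∨ n ≤ (p - 1) * nu (ι z)) := by
  rcases eq_or_ne n 0 with rfl | hn
  · exact ⟨1, by simp, fun h => absurd rfl h, fun h => absurd rfl h⟩
  obtain ⟨y, hy, hyμ, hyn⟩ := exists_factorial_mul_eq p hpm hμ (x := ι x) hx hn
  obtain ⟨z, rfl⟩ := hdiv _ (x ^ n) y n.factorial_ne_zero (by rw [map_pow, hy])
  exact ⟨z, hy, fun _ => hyμ, fun _ => hyn⟩

include hι hdiv hpm hμ in
theorem isDPTopNilpotent (hI : DividedPowers ((maximalIdeal R ^ μ).comap ι)) : IsDPTopNilpotent hI := by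
  rw [IsDPTopNilpotent, eq_bot_iff]
  intro z hz
  rw [Submodule.mem_bot]
  apply hι
  rw [map_zero]
  by_contra hz0
  have hmem := Ideal.mem_iInf.1 hz ((p - 1) * nu (ι z) + 1)
  have hle : dpPow hI ((p - 1) * nu (ι z) + 1) ≤ (maximalIdeal R ^ (nu (ι z) + 1)).comap ι := by
    refine Ideal.span_le.2 ?_
    rintro w ⟨r, x, n, hx, hn, rfl⟩
    rw [SetLike.mem_coe, Ideal.mem_comap, map_prod, mem_pow_iff]
    refine or_iff_not_imp_left.2 fun hne => ?_
    rw [Finset.prod_eq_zero_iff] at hne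
    push Not at hne
    rw [nu_prod _ _ hne]
    have h2 : ∀ i ∈ (Finset.univ : Finset (Fin r)), n i ≤ (p - 1) * nu (ι (hI.dpow (n i) (x i))) := by
      intro i _
      rcases eq_or_ne (n i) 0 with h0 | h0
      · rw [h0]; exact Nat.zero_le _
      obtain ⟨w, hw, -, hwn⟩ := exists_factorial_mul_map_eq p hpm hμ ι hι hdiv (hx i) (n i)
      have hwe : hI.dpow (n i) (x i) = w := by
        apply hι
        apply mul_left_cancel₀ (Nat.cast_ne_zero.2 (n i).factorial_ne_zero : ((n i) ! : R) ≠ 0)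
        rw [hw, ← map_natCast ι, ← map_mul, DividedPowers.factorial_mul_dpow_eq_pow _ (hx i), map_pow]
      rw [hwe]
      exact (hwn h0).resolve_left (hwe ▸ hne i (Finset.mem_univ i))
    by_contra hlt
    have h1 := Nat.mul_le_mul_left (p - 1) (Nat.lt_succ_iff.1 (Nat.lt_of_not_le hlt))
    rw [Finset.mul_sum] at h1
    have := (Finset.sum_le_sum h2).trans h1
    omega
  rcases mem_pow_iff.1 (Ideal.mem_comap.1 (hle hmem)) with h | h
  · exact hz0 h
  · omega

include hι hdiv hpm hμ in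
theorem exists_dividedPowers :
    ∃ hI : DividedPowers ((maximalIdeal R ^ μ).comap ι), IsDPTopNilpotent hI := by
  classical
  let f : C →+* FractionRing R := (algebraMap R (FractionRing R)).comp ι
  have hf : Function.Injective f := (IsFractionRing.injective R (FractionRing R)).comp hι
  haveI : CharZero (FractionRing R) := ⟨fun a b h =>
    Nat.cast_injective (R := R) (IsFractionRing.injective R (FractionRing R) (by simpa using h))⟩
  letI : Algebra ℚ (FractionRing R) := DivisionRing.toRatAlgebra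
  let J : Ideal (FractionRing R) := ((maximalIdeal R ^ μ).comap ι).map f
  have hval : ∀ (n : ℕ) {x : C} (z : C), x ∈ (maximalIdeal R ^ μ).comap ι → (n ! : R) * ι z = ι x ^ n →
      f z = (DividedPowers.RatAlgebra.dividedPowers J).dpow n (f x) := fun n x z hx hz => by
    have h1 : ((n ! : ℕ) : FractionRing R) * f z = f x ^ n := by
      have := congrArg (algebraMap R (FractionRing R)) hz
      simpa [f] using this
    rw [DividedPowers.RatAlgebra.dpow_apply, if_pos (Ideal.mem_map_of_mem f hx), ← h1, ← mul_assoc,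
      Ring.inverse_mul_cancel _ (IsUnit.natCast_factorial_of_algebra ℚ _), one_mul]
  refine ⟨DividedPowers.ofInjective _ J f hf (DividedPowers.RatAlgebra.dividedPowers J) rfl fun n x hx => ?_,
    isDPTopNilpotent p hpm hμ ι hι hdiv _⟩
  obtain ⟨z, hz, hz', -⟩ := exists_factorial_mul_map_eq p hpm hμ ι hι hdiv hx n
  exact ⟨z, hz', hval n z hx hz⟩

end Groth.Agent.H06Font
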