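import Groth.Prelude.Def_W4c1noabschz1DP
import Mathlib.Algebra.BigOperators.Fin
import Mathlib.Tactic.Ring
import Mathlib.Tactic.LinearCombination

/-!
# The divided power filtration
-/

set_option autoImplicit false
universe u

open Finset W4c1noabschz1

namespace Groth.Agent.H06Font

variable {S : Type u} [CommRing S] {I : Ideal S} (hI : DividedPowers I)

theorem dpPow_antitone {a b : ℕ} (h : a ≤ b) : dpPow hI b ≤ dpPow hI a :=
  Ideal.span_mono fun _ ⟨r, x, n, hx, hn, e⟩ => ⟨r, x, n, hx, h.trans hn, e⟩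

theorem prod_dpow_mem {r : ℕ} (x : Fin r → S) (n : Fin r → ℕ) (hx : ∀ i, x i ∈ I) {m : ℕ} (hm : m ≤ ∑ i, n i) :
    ∏ i, hI.dpow (n i) (x i) ∈ dpPow hI m :=
  Ideal.subset_span ⟨r, x, n, hx, hm, rfl⟩

theorem dpow_mem_dpPow {x : S} (hx : x ∈ I) (k : ℕ) : hI.dpow k x ∈ dpPow hI k := by
  simpa using prod_dpow_mem hI (fun _ : Fin 1 => x) (fun _ => k) (fun _ => hx) (m := k) (by simp)

theorem mem_dpPow_one {x : S} (hx : x ∈ I) : x ∈ dpPow hI 1 := by
  simpa [hI.dpow_one hx] using dpow_mem_dpPow hI hx 1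

theorem dpPow_zero : dpPow hI 0 = ⊤ := by
  refine (Ideal.eq_top_iff_one _).2 ?_
  simpa using prod_dpow_mem hI (fun i : Fin 0 => i.elim0) (fun i => i.elim0) (fun i => i.elim0) (m := 0) (by simp)

theorem dpPow_le {m : ℕ} (hm : 1 ≤ m) : dpPow hI m ≤ I := by
  rw [dpPow, Ideal.span_le]
  rintro z ⟨r, x, n, hx, hn, rfl⟩
  obtain ⟨i, -, hi⟩ := Finset.exists_ne_zero_of_sum_ne_zero (show ∑ i, n i ≠ 0 by omega)
  exact Ideal.prod_mem I (Finset.mem_univ i) (hI.dpow_mem hi (hx i))

theorem dpPow_mul_le (a b : ℕ) : dpPow hI a * dpPow hI b ≤ dpPow hI (a + b) := by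
  rw [dpPow, dpPow, Ideal.span_mul_span, Ideal.span_le]
  intro z hz
  obtain ⟨_, ⟨r, x, n, hx, hn, rfl⟩, _, ⟨r', x', n', hx', hn', rfl⟩, rfl⟩ := Set.mem_mul.1 hz
  have := prod_dpow_mem hI (Fin.append x x') (Fin.append n n')
    (Fin.addCases (fun i => by simpa using hx i) (fun i => by simpa using hx' i)) (m := a + b)
    (by rw [Fin.sum_univ_add]; simp only [Fin.append_left, Fin.append_right]; omega)
  rw [Fin.prod_univ_add] at this
  simpa only [Fin.append_left, Fin.append_right, SetLike.mem_coe] using this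

theorem mul_mem_dpPow {a b : ℕ} {x y : S} (hx : x ∈ dpPow hI a) (hy : y ∈ dpPow hI b) :
    x * y ∈ dpPow hI (a + b) :=
  dpPow_mul_le hI a b (Ideal.mul_mem_mul hx hy)

theorem pow_mem_dpPow {a : ℕ} {x : S} (hx : x ∈ dpPow hI a) : ∀ k : ℕ, x ^ k ∈ dpPow hI (k * a)
  | 0 => by simp [dpPow_zero]
  | k + 1 => by
    rw [pow_succ, add_mul, one_mul]
    exact mul_mem_dpPow hI (pow_mem_dpPow hx k) hx

/-- Divided powers of divided-power ideals. -/
theorem dpow_mem {n : ℕ} (hn : 1 ≤ n) {d : S} (hd : d ∈ dpPow hI n) :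
    ∀ k, 1 ≤ k → hI.dpow k d ∈ dpPow hI (k * n) := by
  rw [dpPow] at hd
  induction hd using Submodule.span_induction with
  | mem z hz =>
    obtain ⟨r, x, m, hx, hm, rfl⟩ := hz
    intro k hk
    obtain ⟨i, -, hi⟩ := Finset.exists_ne_zero_of_sum_ne_zero (show ∑ i, m i ≠ 0 by omega)
    rw [← Finset.prod_erase_mul _ _ (Finset.mem_univ i), hI.dpow_mul (hI.dpow_mem hi (hx i)),
      hI.dpow_comp hi (hx i)]
    set w := ∏ j ∈ Finset.univ.erase i, hI.dpow (m j) (x j) with hw
    have hwm : ∀ s : Finset (Fin r), ∏ j ∈ s, hI.dpow (m j) (x j) ∈ dpPow hI (∑ j ∈ s, m j) := by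
      classical
      intro s
      induction s using Finset.induction with
      | empty => simp [dpPow_zero]
      | insert j s hj ih =>
        rw [Finset.prod_insert hj, Finset.sum_insert hj]
        exact mul_mem_dpPow hI (dpow_mem_dpPow hI (hx j) _) ih
    refine dpPow_antitone hI ?_ (mul_mem_dpPow hI (pow_mem_dpPow hI (hwm (Finset.univ.erase i)) k)
      (Ideal.mul_mem_left _ _ (dpow_mem_dpPow hI (hx i) (k * m i))))
    rw [← mul_add, Finset.sum_erase_add _ _ (Finset.mem_univ i)]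
    exact Nat.mul_le_mul_left k hm
  | zero =>
    intro k hk
    rw [hI.dpow_eval_zero (by omega)]
    exact zero_mem _
  | add a b ha hb iha ihb =>
    intro k hk
    rw [hI.dpow_add (dpPow_le hI hn ha) (dpPow_le hI hn hb)]
    refine sum_mem fun q hq => ?_
    rw [Finset.mem_antidiagonal] at hq
    rcases Nat.eq_zero_or_pos q.1 with h1 | h1 <;> rcases Nat.eq_zero_or_pos q.2 with h2 | h2
    · omega
    · exact Ideal.mul_mem_left _ _ (by simpa [← hq, h1] using ihb q.2 h2)
    · exact Ideal.mul_mem_right _ _ (by simpa [← hq, h2] using iha q.1 h1)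
    · rw [← hq, add_mul]
      exact mul_mem_dpPow hI (iha q.1 h1) (ihb q.2 h2)
  | smul c a ha iha =>
    intro k hk
    rw [smul_eq_mul, hI.dpow_mul (dpPow_le hI hn ha)]
    exact Ideal.mul_mem_left _ _ (iha k hk)

/-- One coordinate of the difference of divided power monomials. -/
theorem dpow_add_sub_mem {n : ℕ} (hn : 1 ≤ n) {x d : S} (hx : x ∈ I) (hd : d ∈ dpPow hI n) {k : ℕ}
    (hk : 1 ≤ k) : hI.dpow k (x + d) - hI.dpow k x ∈ dpPow hI (n + k - 1) := by
  have hdI := dpPow_le hI hn hd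
  rw [hI.dpow_add hx hdI, ← Finset.add_sum_erase _ _ (show ((k, 0) : ℕ × ℕ) ∈ Finset.antidiagonal k by simp),
    hI.dpow_zero hdI, mul_one, add_sub_cancel_left]
  refine sum_mem fun q hq => ?_
  rw [Finset.mem_erase, Finset.mem_antidiagonal] at hq
  have h2 : 1 ≤ q.2 := by
    by_contra h
    exact hq.1 (Prod.ext (by show q.1 = k; omega) (by show q.2 = 0; omega))
  refine dpPow_antitone hI ?_ (mul_mem_dpPow hI (dpow_mem_dpPow hI hx q.1) (dpow_mem hI hn hd q.2 h2))
  obtain ⟨j, hj⟩ := Nat.exists_eq_add_of_le h2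
  obtain ⟨i, rfl⟩ := Nat.exists_eq_add_of_le hn
  rw [hj, add_mul, one_mul, mul_add, mul_one]
  omega

/-- The difference of two divided power monomials. -/
theorem prod_dpow_sub_mem {ι : Type*} {n : ℕ} (hn : 1 ≤ n) (h h' : ι → S) (hh : ∀ j, h j ∈ I)
    (hd : ∀ j, h' j - h j ∈ dpPow hI n) (α : ι → ℕ) (s : Finset ι) :
    ∏ j ∈ s, hI.dpow (α j) (h' j) - ∏ j ∈ s, hI.dpow (α j) (h j) ∈ dpPow hI (n + ∑ j ∈ s, α j - 1) := by
  classical
  have hh' : ∀ j, h' j ∈ I := fun j => by
    simpa using add_mem (dpPow_le hI hn (hd j)) (hh j)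
  induction s using Finset.induction with
  | empty => simp
  | insert j s hj ih =>
    rw [Finset.prod_insert hj, Finset.prod_insert hj, Finset.sum_insert hj]
    set A := ∏ i ∈ s, hI.dpow (α i) (h' i) with hA
    set B := ∏ i ∈ s, hI.dpow (α i) (h i) with hB
    have hBm : B ∈ dpPow hI (∑ i ∈ s, α i) := by
      rw [hB]
      clear * - hh
      induction s using Finset.induction with
      | empty => simp [dpPow_zero]
      | insert i s hi ih =>
        rw [Finset.prod_insert hi, Finset.sum_insert hi]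
        exact mul_mem_dpPow hI (dpow_mem_dpPow hI (hh i) _) ih
    rcases Nat.eq_zero_or_pos (α j) with h0 | h0
    · rw [h0, hI.dpow_zero (hh' j), hI.dpow_zero (hh j), one_mul, one_mul, zero_add]
      exact ih
    · rw [show hI.dpow (α j) (h' j) * A - hI.dpow (α j) (h j) * B =
        hI.dpow (α j) (h' j) * (A - B) + (hI.dpow (α j) (h' j) - hI.dpow (α j) (h j)) * B by ring]
      refine add_mem (dpPow_antitone hI (by omega) (mul_mem_dpPow hI (dpow_mem_dpPow hI (hh' j) (α j)) ih))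
        (dpPow_antitone hI (a := n + (α j + ∑ i ∈ s, α i) - 1) (b := n + α j - 1 + ∑ i ∈ s, α i) (by omega)
          (mul_mem_dpPow hI ?_ hBm))
      have := dpow_add_sub_mem hI hn (hh j) (hd j) h0
      rwa [add_sub_cancel] at this

end Groth.Agent.H06Font
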