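import Mathlib.RingTheory.MvPowerSeries.Derivative
import Mathlib.RingTheory.MvPowerSeries.Inverse
import Mathlib.RingTheory.Ideal.Operations
import Mathlib.Data.Fintype.Pi
import Mathlib.Algebra.BigOperators.Ring.Finset

/-!
# Iterated derivatives of power series, truncation on boxes
-/

set_option autoImplicit false
universe u v

open MvPowerSeries

namespace Groth.Agent.H06Font

variable {O : Type u} [CommRing O] {m : ℕ}

/-- exponent vectors as finitely supported functions -/
noncomputable def fsupp (α : Fin m → ℕ) : Fin m →₀ ℕ := Finsupp.equivFunOnFinite.symm α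

@[simp] theorem fsupp_apply (α : Fin m → ℕ) (j : Fin m) : fsupp α j = α j := rfl

/-- The iterated derivative. -/
noncomputable def der (α : Fin m → ℕ) (g : MvPowerSeries (Fin m) O) : MvPowerSeries (Fin m) O :=
  fun d => (∏ j, (d j + α j).descFactorial (α j)) • coeff (d + fsupp α) g

theorem coeff_der (α : Fin m → ℕ) (g : MvPowerSeries (Fin m) O) (d : Fin m →₀ ℕ) :
    coeff d (der α g) = (∏ j, (d j + α j).descFactorial (α j)) • coeff (d + fsupp α) g := rfl

theorem der_zero (g : MvPowerSeries (Fin m) O) : der 0 g = g := by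
  ext d
  rw [coeff_der]
  have : fsupp (0 : Fin m → ℕ) = 0 := Finsupp.ext fun j => rfl
  simp [this]

theorem der_succ (α : Fin m → ℕ) (j : Fin m) (g : MvPowerSeries (Fin m) O) :
    der (α + Pi.single j 1) g = pderiv O j (der α g) := by
  classical
  ext d
  rw [coeff_der, coeff_pderiv, coeff_der]
  have h1 : d + Finsupp.single j 1 + fsupp α = d + fsupp (α + Pi.single j 1) := Finsupp.ext fun i => by
    simp [Finsupp.single_apply, Pi.single_apply, eq_comm]
    split_ifs <;> omega
  rw [h1, smul_mul_assoc, nsmul_eq_mul, nsmul_eq_mul]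
  have h2 : (∏ i, (d i + (α + Pi.single j 1 : Fin m → ℕ) i).descFactorial ((α + Pi.single j 1 : Fin m → ℕ) i)) =
      (∏ i, ((d + Finsupp.single j 1 : Fin m →₀ ℕ) i + α i).descFactorial (α i)) * (d j + 1) := by
    rw [← Finset.mul_prod_erase _ _ (Finset.mem_univ j), ← Finset.mul_prod_erase _ _ (Finset.mem_univ j)]
    have he : ∀ i ∈ Finset.univ.erase j, (d i + (α + Pi.single j 1 : Fin m → ℕ) i).descFactorial ((α + Pi.single j 1 : Fin m → ℕ) i) =
        ((d + Finsupp.single j 1 : Fin m →₀ ℕ) i + α i).descFactorial (α i) := fun i hi => by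
      have := (Finset.mem_erase.1 hi).1
      simp [this]
    rw [Finset.prod_congr rfl he]
    simp only [Pi.add_apply, Pi.single_eq_same, Finsupp.add_apply, Finsupp.single_eq_same]
    rw [show d j + (α j + 1) = d j + 1 + α j by ring, Nat.descFactorial_succ, Nat.add_sub_cancel]
    ring
  rw [h2]
  push_cast
  ring

theorem der_single (j : Fin m) (g : MvPowerSeries (Fin m) O) : der (Pi.single j 1) g = pderiv O j g := by
  have := der_succ 0 j g
  rwa [zero_add, der_zero] at this

/-- An ideal stable under the partial derivatives contains the iterated derivatives. -/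
theorem der_mem {K : Ideal (MvPowerSeries (Fin m) O)} (hK : ∀ j, ∀ f ∈ K, pderiv O j f ∈ K)
    {g : MvPowerSeries (Fin m) O} (hg : ∀ j, pderiv O j g ∈ K) :
    ∀ (k : ℕ) (α : Fin m → ℕ), ∑ j, α j = k + 1 → der α g ∈ K := by
  classical
  intro k
  induction k with
  | zero =>
    intro α hα
    obtain ⟨j, -, hj⟩ := Finset.exists_ne_zero_of_sum_ne_zero (show ∑ j, α j ≠ 0 by omega)
    have h1 := Finset.add_sum_erase _ α (Finset.mem_univ j)
    have : α = Pi.single j 1 := funext fun i => by
      rcases eq_or_ne i j with rfl | hi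
      · simp; omega
      · rw [Pi.single_eq_of_ne hi]
        have := Finset.single_le_sum (f := α) (fun i _ => Nat.zero_le _) (Finset.mem_erase.2 ⟨hi, Finset.mem_univ i⟩)
        omega
    rw [this, der_single]
    exact hg j
  | succ k ih =>
    intro α hα
    obtain ⟨j, -, hj⟩ := Finset.exists_ne_zero_of_sum_ne_zero (show ∑ j, α j ≠ 0 by omega)
    let β := Function.update α j (α j - 1)
    have hβ : α = β + Pi.single j 1 := funext fun i => by
      rcases eq_or_ne i j with rfl | hi
      · simp [β]; omega
      · simp [β, hi]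
    have hsum : ∑ i, β i = k + 1 := by
      have h1 : ∑ i, α i = ∑ i, β i + 1 := by
        conv_lhs => rw [hβ]
        simp [Finset.sum_add_distrib]
      omega
    rw [hβ, der_succ]
    exact hK j _ (ih β hsum)

theorem mem_span_pow_of_coeff (L : Fin m → ℕ) (s : Finset (Fin m)) : ∀ f : MvPowerSeries (Fin m) O,
    (∀ d : Fin m →₀ ℕ, (∀ j ∈ s, d j < L j) → coeff d f = 0) →
      f ∈ Ideal.span (Set.range fun j => (X j : MvPowerSeries (Fin m) O) ^ L j) := by
  classical
  induction s using Finset.induction with
  | empty =>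
    intro f hf
    have : f = 0 := MvPowerSeries.ext fun d => hf d (by simp)
    exact this ▸ zero_mem _
  | insert j s hj ih =>
    intro f hf
    let f₁ : MvPowerSeries (Fin m) O := fun d => if L j ≤ d j then coeff d f else 0
    have hc : ∀ d, coeff d f₁ = if L j ≤ d j then coeff d f else 0 := fun d => rfl
    have h1 : f₁ ∈ Ideal.span (Set.range fun j => (X j : MvPowerSeries (Fin m) O) ^ L j) := by
      obtain ⟨q, hq⟩ := (X_pow_dvd_iff (s := j) (n := L j) (φ := f₁)).2 fun d hd => by
        rw [hc, if_neg (by omega)]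
      rw [hq]
      exact Ideal.mul_mem_right _ _ (Ideal.subset_span ⟨j, rfl⟩)
    rw [← sub_add_cancel f f₁]
    refine add_mem (ih _ fun d hd => ?_) h1
    rw [map_sub, hc]
    split_ifs with h
    · exact sub_self _
    · rw [sub_zero]
      exact hf d fun i hi => by
        rcases Finset.mem_insert.1 hi with rfl | hi
        · omega
        · exact hd i hi

/-- Truncation on a box. -/
theorem sub_box_mem (L : Fin m → ℕ) (g : MvPowerSeries (Fin m) O) :
    g - ∑ β ∈ Fintype.piFinset (fun j => Finset.range (L j)), monomial (fsupp β) (coeff (fsupp β) g) ∈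
      Ideal.span (Set.range fun j => (X j : MvPowerSeries (Fin m) O) ^ L j) := by
  classical
  refine mem_span_pow_of_coeff L Finset.univ _ fun d hd => ?_
  rw [map_sub, map_sum]
  have hd' : (fun j => d j) ∈ Fintype.piFinset (fun j => Finset.range (L j)) := by
    simpa [Fintype.mem_piFinset] using fun j => hd j (Finset.mem_univ j)
  rw [Finset.sum_eq_single (fun j => d j)]
  · rw [show fsupp (fun j => d j) = d from Finsupp.ext fun j => rfl, coeff_monomial, if_pos rfl, sub_self]
  · intro β _ hβ
    rw [coeff_monomial, if_neg]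
    rintro rfl
    exact hβ rfl
  · exact fun h => absurd hd' h

variable {S : Type v} [CommRing S] [Algebra O S]

theorem map_monomial (χ : MvPowerSeries (Fin m) O →ₐ[O] S) (β : Fin m → ℕ) (c : O) :
    χ (monomial (fsupp β) c) = algebraMap O S c * ∏ j, χ (X j) ^ β j := by
  rw [← MvPolynomial.coe_monomial, MvPolynomial.monomial_eq]
  rw [Finsupp.prod_of_support_subset _ (Finset.subset_univ _) _ (fun i _ => pow_zero _)]
  show χ.comp (MvPolynomial.coeToMvPowerSeries.algHom (σ := Fin m) (R := O) O) _ = _
  rw [map_mul, map_prod]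
  congr 1
  · exact (χ.comp _).commutes c
  · refine Finset.prod_congr rfl fun j _ => ?_
    rw [map_pow]
    simp

end Groth.Agent.H06Font
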