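import Groth.Agent.H02CA.PowerSeries
import Groth.Agent.H24Art.PowerSeries
import Mathlib.RingTheory.MvPowerSeries.Inverse
import Mathlib.RingTheory.AdicCompletion.Noetherian

/-!
# Eliminating variables in a presentation by power series
-/

set_option autoImplicit false
set_option linter.style.haveILetI false
universe u v

open MvPowerSeries IsLocalRing

namespace Groth.Agent.H06Font

variable {O : Type u} [CommRing O] [IsLocalRing O] [IsNoetherianRing O] [IsAdicComplete (maximalIdeal O) O]

theorem X_mem_maximal {m : ℕ} (k : Fin m) :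
    (X k : MvPowerSeries (Fin m) O) ∈ maximalIdeal (MvPowerSeries (Fin m) O) := by
  simp [isUnit_iff_constantCoeff]

theorem C_mem_maximal {m : ℕ} {c : O} (hc : c ∈ maximalIdeal O) :
    (C c : MvPowerSeries (Fin m) O) ∈ maximalIdeal (MvPowerSeries (Fin m) O) := by
  simpa [isUnit_iff_constantCoeff] using hc

set_option maxHeartbeats 800000 in
/-- A relation with a unit linear term eliminates a variable. -/
theorem exists_step {m : ℕ} {A : Type v} [CommRing A] [Algebra O A] [Nontrivial A]
    (f : Fin (m + 1) → MvPowerSeries (Fin (m + 1)) O)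
    (e : (MvPowerSeries (Fin (m + 1)) O ⧸ Ideal.span (Set.range f)) ≃ₐ[O] A)
    (i j : Fin (m + 1)) (hu : IsUnit (coeff (Finsupp.single j 1) (f i))) :
    ∃ f' : Fin m → MvPowerSeries (Fin m) O,
      Nonempty ((MvPowerSeries (Fin m) O ⧸ Ideal.span (Set.range f')) ≃ₐ[O] A) := by
  classical
  let c := constantCoeff (f i)
  have hc : c ∈ maximalIdeal O := by
    by_contra h
    have h1 : IsUnit (f i) := isUnit_iff_constantCoeff.2 (by simpa using h)
    have : (1 : MvPowerSeries (Fin (m + 1)) O) ∈ Ideal.span (Set.range f) := by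
      obtain ⟨w, hw⟩ := h1
      rw [← w.inv_mul, hw]
      exact Ideal.mul_mem_left _ _ (Ideal.subset_span ⟨i, rfl⟩)
    exact one_ne_zero (α := A) (by rw [← map_one e, ← map_one (Ideal.Quotient.mk _),
      Ideal.Quotient.eq_zero_iff_mem.2 this, map_zero])
  let b : Fin (m + 1) → MvPowerSeries (Fin (m + 1)) O := Function.update X j (f i - C c)
  have hb : ∀ k, constantCoeff (b k) = 0 := fun k => by
    rcases eq_or_ne k j with rfl | hk
    · simp [b, c]
    · simp [b, hk]
  let φ : MvPowerSeries (Fin (m + 1)) O →ₐ[O] MvPowerSeries (Fin (m + 1)) O :=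
    substAlgHom (hasSubst_of_constantCoeff_zero hb)
  have hφ : ∀ k, φ (X k) = b k := fun k => substAlgHom_X (hasSubst_of_constantCoeff_zero hb) k
  have hbij : Function.Bijective φ := by
    refine H02CA.PS.bijective_of_isUnit_det (fun k => by rw [hφ]; exact hb k) ?_
    have hM : (Matrix.of fun k l => coeff (Finsupp.single l 1) (φ (X k))) =
        (1 : Matrix (Fin (m + 1)) (Fin (m + 1)) O).updateRow j (fun l => coeff (Finsupp.single l 1) (f i)) := by
      ext k l
      rw [Matrix.of_apply, hφ, Matrix.updateRow_apply]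
      rcases eq_or_ne k j with rfl | hk
      · simp [b, coeff_C]
      · simp [b, hk, coeff_index_single_X, Matrix.one_apply, eq_comm]
    rw [hM]
    have hdet : ((1 : Matrix (Fin (m + 1)) (Fin (m + 1)) O).updateRow j
        (fun l => coeff (Finsupp.single l 1) (f i))).det = coeff (Finsupp.single j 1) (f i) := by
      rw [← Matrix.cramer_transpose_apply, Matrix.transpose_one, Matrix.cramer_one]
      rfl
    rwa [hdet]
  have hφj : φ (X j + C c) = f i := by
    rw [map_add, hφ, show φ (C c) = C c from φ.commutes c]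
    simp [b]
  haveI := H24Art.isAdicComplete_mvPowerSeries (R := O) (n := m)
  haveI := H24Art.isAdicComplete_mvPowerSeries (R := O) (n := m + 1)
  obtain ⟨Θ, hΘ⟩ := H02CA.PS.exists_algHom (R := O) (σ := Fin (m + 1)) (maximalIdeal (MvPowerSeries (Fin m) O))
    (j.insertNth (- C c) fun k => X k) ((Fin.forall_iff_succAbove j).2 ⟨by simpa using neg_mem (C_mem_maximal hc),
      fun k => by simpa using X_mem_maximal k⟩)
  have hΘj : Θ (X j) = - C c := by simpa using hΘ j
  have hΘk : ∀ k, Θ (X (j.succAbove k)) = X k := fun k => by simpa using hΘ (j.succAbove k)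
  obtain ⟨ι, hι⟩ := H02CA.PS.exists_algHom (R := O) (σ := Fin m) (maximalIdeal (MvPowerSeries (Fin (m + 1)) O))
    (fun k => X (j.succAbove k)) (fun k => X_mem_maximal _)
  have hΘι : ∀ G, Θ (ι G) = G := by
    have : Θ.comp ι = AlgHom.id O _ := H02CA.PS.algHom_ext (maximalIdeal (MvPowerSeries (Fin m) O))
      (fun k => by rw [AlgHom.comp_apply, hι, hΘk]; exact X_mem_maximal k)
      (fun k => by rw [AlgHom.comp_apply, hι, hΘk]; rfl)
    exact fun G => AlgHom.congr_fun this G
  have hιΘ : ∀ F, F - ι (Θ F) ∈ Ideal.span {X j + C c} := by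
    let J : Ideal (MvPowerSeries (Fin (m + 1)) O) := Ideal.span {X j + C c}
    haveI : IsHausdorff (maximalIdeal (MvPowerSeries (Fin (m + 1)) O)) (MvPowerSeries (Fin (m + 1)) O ⧸ J) :=
      inferInstance
    haveI : IsHausdorff ((maximalIdeal (MvPowerSeries (Fin (m + 1)) O)).map (Ideal.Quotient.mk J))
        (MvPowerSeries (Fin (m + 1)) O ⧸ J) :=
      (IsHausdorff.map_algebraMap_iff (S := MvPowerSeries (Fin (m + 1)) O ⧸ J)).2 inferInstance
    have : (Ideal.Quotient.mkₐ O J) = (Ideal.Quotient.mkₐ O J).comp (ι.comp Θ) := by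
      refine H02CA.PS.algHom_ext ((maximalIdeal _).map (Ideal.Quotient.mk J))
        (fun k => Ideal.mem_map_of_mem _ (X_mem_maximal k)) ((Fin.forall_iff_succAbove j).2 ⟨?_, fun k => ?_⟩)
      · show Ideal.Quotient.mk J (X j) = Ideal.Quotient.mk J (ι (Θ (X j)))
        rw [hΘj, map_neg, show ι (C c) = C c from ι.commutes c, Ideal.Quotient.eq, sub_neg_eq_add]
        exact Ideal.mem_span_singleton_self _
      · show Ideal.Quotient.mk J (X (j.succAbove k)) = Ideal.Quotient.mk J (ι (Θ (X (j.succAbove k))))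
        rw [hΘk, hι]
    exact fun F => Ideal.Quotient.eq.1 (AlgHom.congr_fun this F)
  let Φ := AlgEquiv.ofBijective φ hbij
  let f' : Fin m → MvPowerSeries (Fin m) O := fun k => Θ (Φ.symm (f (i.succAbove k)))
  let ψ : MvPowerSeries (Fin m) O →ₐ[O] A := (e.toAlgHom.comp (Ideal.Quotient.mkₐ O _)).comp (φ.comp ι)
  have hψΘ : ∀ F, ψ (Θ F) = e (Ideal.Quotient.mk _ (φ F)) := by
    intro F
    show e (Ideal.Quotient.mk _ (φ (ι (Θ F)))) = _
    refine congrArg e (Ideal.Quotient.eq.2 ?_)
    rw [← map_sub, ← neg_sub, map_neg]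
    refine neg_mem ?_
    obtain ⟨q, hq⟩ := Ideal.mem_span_singleton'.1 (hιΘ F)
    rw [← hq, map_mul, hφj]
    exact Ideal.mul_mem_left _ _ (Ideal.subset_span ⟨i, rfl⟩)
  have hsurj : Function.Surjective ψ := fun z => by
    obtain ⟨w, hw⟩ := e.surjective z
    obtain ⟨F, rfl⟩ := Ideal.Quotient.mk_surjective w
    obtain ⟨F, rfl⟩ := hbij.2 F
    exact ⟨Θ F, (hψΘ F).trans hw⟩
  have hker : RingHom.ker ψ = Ideal.span (Set.range f') := by
    refine le_antisymm (fun G hG => ?_) (Ideal.span_le.2 ?_)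
    · rw [RingHom.mem_ker] at hG
      have h1 : φ (ι G) ∈ Ideal.span (Set.range f) :=
        Ideal.Quotient.eq_zero_iff_mem.1 (e.injective (hG.trans (map_zero e).symm))
      obtain ⟨q, hq⟩ := Ideal.mem_span_range_iff_exists_fun.1 h1
      have h2 : ι G = ∑ k, Φ.symm (q k) * Φ.symm (f k) := by
        apply Φ.injective
        rw [map_sum]
        simp only [map_mul, AlgEquiv.apply_symm_apply]
        exact hq.symm
      have h3 : Θ (Φ.symm (f i)) = 0 := by
        rw [← hφj, show Φ.symm (φ (X j + C c)) = X j + C c from Φ.symm_apply_apply _, map_add, hΘj,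
          show Θ (C c) = C c from Θ.commutes c, neg_add_cancel]
      rw [← hΘι G, h2, map_sum, Fin.sum_univ_succAbove _ i, map_mul, h3, mul_zero, zero_add]
      exact sum_mem fun k _ => by rw [map_mul]; exact Ideal.mul_mem_left _ _ (Ideal.subset_span ⟨k, rfl⟩)
    · rintro _ ⟨k, rfl⟩
      show ψ (Θ (Φ.symm (f (i.succAbove k)))) = 0
      rw [hψΘ, show φ (Φ.symm (f (i.succAbove k))) = f (i.succAbove k) from Φ.apply_symm_apply _,
        Ideal.Quotient.eq_zero_iff_mem.2 (Ideal.subset_span (Set.mem_range_self (i.succAbove k))), map_zero]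
  exact ⟨f', ⟨(Ideal.quotientEquivAlgOfEq O hker.symm).trans (Ideal.quotientKerAlgEquivOfSurjective hsurj)⟩⟩

/-- A presentation without unit linear terms. -/
theorem exists_minimal {A : Type v} [CommRing A] [Algebra O A] [Nontrivial A] : ∀ (m : ℕ)
    (f : Fin m → MvPowerSeries (Fin m) O)
    (_ : (MvPowerSeries (Fin m) O ⧸ Ideal.span (Set.range f)) ≃ₐ[O] A),
    ∃ (r : ℕ) (g : Fin r → MvPowerSeries (Fin r) O),
      Nonempty ((MvPowerSeries (Fin r) O ⧸ Ideal.span (Set.range g)) ≃ₐ[O] A) ∧
      ∀ i j, ¬ IsUnit (coeff (Finsupp.single j 1) (g i)) := by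
  intro m
  induction m with
  | zero => exact fun f e => ⟨0, f, ⟨e⟩, fun i => i.elim0⟩
  | succ m ih =>
    intro f e
    by_cases h : ∃ i j, IsUnit (coeff (Finsupp.single j 1) (f i))
    · obtain ⟨i, j, hu⟩ := h
      obtain ⟨f', ⟨e'⟩⟩ := exists_step f e i j hu
      exact ih f' e'
    · exact ⟨m + 1, f, ⟨e⟩, fun i j hu => h ⟨i, j, hu⟩⟩

end Groth.Agent.H06Font
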