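import Groth.Agent.H06Font.Main

/-!
# Fontaine's bound in the normalised form
-/

set_option autoImplicit false
set_option linter.style.haveILetI false
set_option maxHeartbeats 1000000
universe u

open IsLocalRing Polynomial

namespace Groth.Agent.H06Font

theorem nu_eq_of_span_eq {R : Type u} [CommRing R] [IsDomain R] [IsDiscreteValuationRing R] {x : R} {k : ℕ}
    (h : Ideal.span {x} = maximalIdeal R ^ k) : x ≠ 0 ∧ nu x = k := by
  obtain ⟨ϖ, hϖ⟩ := IsDiscreteValuationRing.exists_irreducible R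
  rw [hϖ.maximalIdeal_eq, Ideal.span_singleton_pow, Ideal.span_singleton_eq_span_singleton] at h
  obtain ⟨u, hu⟩ := h.symm
  subst hu
  have h1 : nu (ϖ ^ k) = k := by rw [nu_pow hϖ.ne_zero, nu, IsDiscreteValuationRing.addVal_uniformizer hϖ]; simp
  exact ⟨mul_ne_zero (pow_ne_zero k hϖ.ne_zero) u.ne_zero,
    by rw [nu_mul (pow_ne_zero k hϖ.ne_zero) u.ne_zero, nu_unit u.isUnit, h1, add_zero]⟩

theorem isGalois_points {O K Ω : Type u} [CommRing O] [Field K] [CharZero K] [Field Ω] [Algebra O K] [Algebra K Ω]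
    [Algebra O Ω] [IsScalarTower O K Ω] [IsAlgClosure K Ω] {A : Type u} [CommRing A] [Algebra O A]
    (L : IntermediateField K Ω) (hL : L = IntermediateField.adjoin K (⋃ φ : A →ₐ[O] Ω, Set.range φ)) :
    IsGalois K L := by
  haveI : Normal K Ω := IsAlgClosure.normal K Ω
  haveI : Normal K L := by
    subst hL
    rw [IntermediateField.normal_iff_forall_map_le']
    intro σ
    rw [IntermediateField.adjoin_map]
    refine IntermediateField.adjoin.mono K _ _ ?_
    rintro _ ⟨y, hy, rfl⟩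
    obtain ⟨φ, z, rfl⟩ := Set.mem_iUnion.1 hy
    exact Set.mem_iUnion.2 ⟨(σ.toAlgHom.restrictScalars O).comp φ, z, rfl⟩
  exact ⟨⟩

theorem ramification_bound
    (O : Type u) [CommRing O] [IsDomain O] [IsDiscreteValuationRing O]
    [IsAdicComplete (maximalIdeal O) O] [CharZero O] [PerfectField (ResidueField O)]
    (p : ℕ) [Fact p.Prime] [CharP (ResidueField O) p]
    (eK : ℕ) (heK : Ideal.span {(p : O)} = maximalIdeal O ^ eK)
    (m : ℕ) (f : Fin m → MvPowerSeries (Fin m) O) (A : Type u) [CommRing A] [Algebra O A]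
    (eA : (MvPowerSeries (Fin m) O ⧸ Ideal.span (Set.range f)) ≃ₐ[O] A)
    [Module.Finite O A] [Module.Flat O A] (a : O) (ha : a ≠ 0) (va : ℕ)
    (hva : Ideal.span {a} = maximalIdeal O ^ va) (r : ℕ)
    (hΩ : Nonempty (KaehlerDifferential O A ≃ₗ[A] (Fin r → A ⧸ Ideal.span {algebraMap O A a})))
    (L : IntermediateField (FractionRing O) (AlgebraicClosure (FractionRing O)))
    (hL : L = IntermediateField.adjoin (FractionRing O)
      (⋃ φ : A →ₐ[O] AlgebraicClosure (FractionRing O), Set.range φ))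
    [FiniteDimensional (FractionRing O) L] [Algebra.IsSeparable (FractionRing O) L]
    [Module.IsTorsionFree O (integralClosure O L)] (P : Ideal (integralClosure O L)) [P.IsMaximal] :
    ∃ d : ℕ, differentIdeal O (integralClosure O L) = P ^ d ∧
      ∀ σ : L ≃ₐ[FractionRing O] L, σ ≠ AlgEquiv.refl → ∀ j : ℕ,
        (∀ x : (integralClosure O L), ∃ y ∈ P ^ j, algebraMap (integralClosure O L) L y =
          σ (algebraMap (integralClosure O L) L x) - algebraMap (integralClosure O L) L x) →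
          (j : ℚ) + d ≤ (P.ramificationIdx O : ℚ) * (va + eK / ((p : ℚ) - 1)) := by
  classical
  haveI : CharZero (FractionRing O) := ⟨fun a b h =>
    Nat.cast_injective (R := O) (IsFractionRing.injective O (FractionRing O) (by simpa using h))⟩
  haveI : IsDiscreteValuationRing (integralClosure O L) := closure_dvr O (FractionRing O) L
  haveI : Module.Finite O (integralClosure O L) := closure_finite O (FractionRing O) L
  haveI : Module.Flat O (integralClosure O L) := closure_flat O (FractionRing O) L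
  haveI : IsGalois (FractionRing O) L := isGalois_points L hL
  have hinj : Function.Injective (algebraMap O (integralClosure O L)) :=
    Module.isTorsionFree_iff_algebraMap_injective.1 inferInstance
  obtain ⟨θ, hθ⟩ := exists_adjoin_eq_top (B := integralClosure O L) hinj
  obtain ⟨ϖ, hϖ⟩ := IsDiscreteValuationRing.exists_irreducible O
  have hP : P = maximalIdeal (integralClosure O L) := eq_maximalIdeal ‹P.IsMaximal›
  subst hP
  have hp : (p : O) ∈ maximalIdeal O := by
    rw [← residue_eq_zero_iff, map_natCast, CharP.cast_eq_zero]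
  refine ⟨_, differentIdeal_eq (K := FractionRing O) hθ, fun σ hσ j hj => ?_⟩
  have hb := bound p hp a ha (fun R _ _ _ _ _ hpR _ => lifts_of_kaehler p hp hpR a ha f eA r hΩ)
    L hL θ hθ hϖ va eK (nu_eq_of_span_eq hva).2 (nu_eq_of_span_eq heK).2
    (fun h0 => nu_eq_zero_of_isUnit a r hΩ L hL θ hθ ((nu_eq_zero_iff ha).1 ((nu_eq_of_span_eq hva).2.trans h0)))
    σ hσ
  obtain ⟨y, hy, hy'⟩ := hj θ
  have hye : y = gam O σ θ - θ := by
    apply Subtype.ext
    show (y : L) = (gam O σ θ : L) - (θ : L)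
    rw [coe_gam]
    exact hy'
  have hjI : j ≤ nu (gam O σ θ - θ) := by
    rw [hye, mem_pow_iff] at hy
    refine hy.resolve_left fun h0 => sub_gam_ne_zero hθ (g := σ) hσ ?_
    rw [← neg_sub, h0, neg_zero]
  rw [ramificationIdx_eq_nu hinj hϖ]
  obtain ⟨q, hq⟩ : ∃ q, p = q + 1 + 1 := ⟨p - 2, by have := (Fact.out : p.Prime).two_le; omega⟩
  subst hq
  simp only [Nat.add_sub_cancel] at hb
  have hb' := (Nat.mul_le_mul_left (q + 1) (Nat.add_le_add_right hjI
    (∑ k ∈ Finset.univ.erase (1 : L ≃ₐ[FractionRing O] L), nu (gam O k θ - θ)))).trans hb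
  have hQ : ((q + 1 : ℕ) : ℚ) * ((j : ℚ) + ((∑ k ∈ Finset.univ.erase (1 : L ≃ₐ[FractionRing O] L),
      nu (gam O k θ - θ) : ℕ) : ℚ)) ≤ (nu (algebraMap O (integralClosure O L) ϖ) : ℚ) * (((q + 1 : ℕ) : ℚ) * va + eK) := by
    exact_mod_cast hb'
  have hpos : (0 : ℚ) < ((q + 1 : ℕ) : ℚ) := by positivity
  rw [show ((q + 1 + 1 : ℕ) : ℚ) - 1 = ((q + 1 : ℕ) : ℚ) by push_cast; ring]
  rw [show (va : ℚ) + (eK : ℚ) / ((q + 1 : ℕ) : ℚ) = (((q + 1 : ℕ) : ℚ) * va + eK) / ((q + 1 : ℕ) : ℚ) by field_simp,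
    ← mul_div_assoc, le_div_iff₀ hpos, mul_comm _ ((q + 1 : ℕ) : ℚ)]
  exact hQ

end Groth.Agent.H06Font
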