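import Groth.Agent.H06Font.Root
import Groth.Agent.H24Adic.Rig
import Groth.Prelude.Def_SGA3b
import Mathlib.RingTheory.Bialgebra.Convolution
import Mathlib.LinearAlgebra.FreeModule.Finite.Matrix

/-!
# Points of finite flat commutative group schemes killed by an integer
-/

set_option autoImplicit false
set_option linter.style.haveILetI false
set_option linter.unusedSectionVars false
set_option maxHeartbeats 1000000
universe u w

open IsLocalRing TensorProduct WithConv

namespace Groth.Agent.H06Font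

variable {O : Type u} [CommRing O] {A : Type u} [CommRing A]

section Powers

variable [HopfAlgebra O A] [Coalgebra.IsCocomm O A]

theorem comp_powConv {B : Type w} [CommRing B] [Algebra O B] (φ : A →ₐ[O] B) (n : ℕ) :
    φ.comp (SGA3b.powConv O A n) = ((toConv φ) ^ n).ofConv := by
  induction n with
  | zero =>
    refine AlgHom.ext fun a => ?_
    simp [SGA3b.powConv]
  | succ n ih =>
    rw [SGA3b.powConv, pow_succ, AlgHom.comp_convMul_distrib]
    rw [SGA3b.powConv] at ih
    rw [ih, toConv_ofConv, ofConv_toConv, AlgHom.comp_id, ← pow_succ]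

theorem pow_eq_one_of_killed {m : ℕ}
    (hkill : SGA3b.powConv O A m = (Algebra.ofId O A).comp (Bialgebra.counitAlgHom O A))
    {B : Type w} [CommRing B] [Algebra O B] (φ : A →ₐ[O] B) :
    (toConv φ.toLinearMap) ^ m = 1 := by
  have h : (toConv φ) ^ m = 1 := by
    apply ofConv_injective
    rw [← comp_powConv, hkill]
    exact AlgHom.ext fun a => by simp
  have h2 := AlgHom.toLinearMap_convPow (toConv φ) m
  rw [h] at h2
  exact h2.symm

end Powers

section Lifting

variable [HopfAlgebra O A] [Coalgebra.IsCocomm O A] [Module.Finite O A] [Module.Free O A]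
  {T : Type w} [CommRing T] [IsDomain T] [IsDiscreteValuationRing T] [IsAdicComplete (maximalIdeal T) T]
  [CharZero T] [Algebra O T]
  {m : ℕ} (hm : m ≠ 0) (hkill : SGA3b.powConv O A m = (Algebra.ofId O A).comp (Bialgebra.counitAlgHom O A))
  (p : ℕ) [Fact p.Prime] (hpT : (p : T) ∈ maximalIdeal T) {k : ℕ} (hk : nu (p : T) < (p - 1) * k)
  {ϖ : T} (hϖ : Irreducible ϖ)

theorem dvd_iff_smul {C : Type u} [AddCommGroup C] [Module O C] [Coalgebra O C] [Coalgebra.IsCocomm O C]
    (c : T) (x y : WithConv (C →ₗ[O] T)) : c • y = x ↔ algebraMap T _ c * y = x := by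
  rw [Algebra.smul_def]

theorem dvd_of_forall_mem {C : Type u} [AddCommGroup C] [Module O C] [Coalgebra O C] [Coalgebra.IsCocomm O C]
    {c : T} (hc : c ≠ 0) {x : WithConv (C →ₗ[O] T)} (h : ∀ a, c ∣ x.ofConv a) :
    algebraMap T (WithConv (C →ₗ[O] T)) c ∣ x := by
  choose y hy using h
  refine ⟨toConv
    { toFun := y
      map_add' := fun a b => mul_left_cancel₀ hc (by rw [← hy, map_add, mul_add, ← hy, ← hy])
      map_smul' := fun o a => mul_left_cancel₀ hc (by
        rw [← hy, map_smul, hy a, RingHom.id_apply, mul_smul_comm]) }, ?_⟩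
  rw [← Algebra.smul_def]
  refine WithConv.ext (LinearMap.ext fun a => ?_)
  rw [ofConv_smul, LinearMap.smul_apply, smul_eq_mul]
  exact hy a

theorem dvd_apply {C : Type u} [AddCommGroup C] [Module O C] [Coalgebra O C] [Coalgebra.IsCocomm O C]
    {c : T} {x : WithConv (C →ₗ[O] T)} (h : algebraMap T (WithConv (C →ₗ[O] T)) c ∣ x) (a : C) :
    c ∣ x.ofConv a := by
  obtain ⟨y, rfl⟩ := h
  rw [← Algebra.smul_def, ofConv_smul, LinearMap.smul_apply, smul_eq_mul]
  exact dvd_mul_right _ _

include hϖ in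
theorem isRegular_conv {C : Type u} [AddCommGroup C] [Module O C] [Coalgebra O C] [Coalgebra.IsCocomm O C] :
    IsSMulRegular (WithConv (C →ₗ[O] T)) (algebraMap T (WithConv (C →ₗ[O] T)) ϖ) := by
  intro x y h
  refine WithConv.ext (LinearMap.ext fun a => mul_left_cancel₀ hϖ.ne_zero ?_)
  simp only [smul_eq_mul, ← Algebra.smul_def] at h
  simpa using congrArg (fun z : WithConv (C →ₗ[O] T) => z.ofConv a) h

include hϖ in
theorem sep_conv {C : Type u} [AddCommGroup C] [Module O C] [Coalgebra O C] [Coalgebra.IsCocomm O C]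
    (z : WithConv (C →ₗ[O] T)) (hz : ∀ j, algebraMap T (WithConv (C →ₗ[O] T)) ϖ ^ j ∣ z) : z = 0 := by
  refine WithConv.ext (LinearMap.ext fun a => ?_)
  refine IsHausdorff.haus (I := maximalIdeal T) inferInstance _ fun j => ?_
  rw [SModEq.zero, smul_eq_mul, Ideal.mul_top, hϖ.maximalIdeal_eq, Ideal.span_singleton_pow, Ideal.mem_span_singleton]
  exact dvd_apply (by rw [map_pow]; exact hz j) a

include hϖ in
theorem complete_conv {C : Type u} [AddCommGroup C] [Module O C] [Coalgebra O C] [Coalgebra.IsCocomm O C]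
    [Module.Finite O C] [Module.Free O C] :
    IsAdicComplete (Ideal.span {algebraMap T (WithConv (C →ₗ[O] T)) ϖ}) (WithConv (C →ₗ[O] T)) := by
  haveI : Module.Finite T (WithConv (C →ₗ[O] T)) := Module.Finite.equiv (WithConv.linearEquiv T (C →ₗ[O] T)).symm
  haveI : IsAdicComplete (maximalIdeal T) (WithConv (C →ₗ[O] T)) := H24Adic.isAdicComplete_of_finite _
  have := (IsAdicComplete.map_algebraMap_iff (maximalIdeal T) (WithConv (C →ₗ[O] T))
    (S := WithConv (C →ₗ[O] T))).2 inferInstance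
  rwa [hϖ.maximalIdeal_eq, Ideal.map_span, Set.image_singleton] at this

include hm hpT hk hϖ in
theorem data_conv {C : Type u} [AddCommGroup C] [Module O C] [Coalgebra O C] [Coalgebra.IsCocomm O C] :
    ∃ u : WithConv (C →ₗ[O] T), IsUnit u ∧
      ((m : ℕ) : WithConv (C →ₗ[O] T)) = algebraMap T _ ϖ ^ nu (m : T) * u ∧
      ∀ i, 2 ≤ i → ∀ j, k ≤ j → algebraMap T (WithConv (C →ₗ[O] T)) ϖ ^ (nu (m : T) + j + 1) ∣
        (m.choose i : WithConv (C →ₗ[O] T)) * algebraMap T _ ϖ ^ (j * i) := by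
  obtain ⟨l, u, hlu⟩ := IsDiscreteValuationRing.eq_unit_mul_pow_irreducible (Nat.cast_ne_zero.2 hm : (m : T) ≠ 0) hϖ
  have hl : nu (m : T) = l := by
    rw [hlu, nu_mul u.ne_zero (pow_ne_zero _ hϖ.ne_zero), nu_unit u.isUnit, nu_pow hϖ.ne_zero, nu,
      IsDiscreteValuationRing.addVal_uniformizer hϖ]
    simp
  refine ⟨algebraMap T _ (u : T), u.isUnit.map _, ?_, fun i hi j hj => ?_⟩
  · rw [hl, ← map_pow, ← map_mul, mul_comm, ← hlu, map_natCast]
  · have h := map_dvd (algebraMap T (WithConv (C →ₗ[O] T))) (pow_dvd_choose_mul p hpT hϖ hk m hm i hi j hj)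
    simpa using h

/-- The evaluation at one is multiplicative. -/
theorem conv_apply_one (f g : WithConv (A →ₗ[O] T)) : (f * g).ofConv 1 = f.ofConv 1 * g.ofConv 1 := by
  show (f * g) 1 = _
  rw [LinearMap.convMul_apply, Bialgebra.comul_one, Algebra.TensorProduct.one_def, TensorProduct.map_tmul,
    LinearMap.mul'_apply]

theorem conv_apply_one_pow (f : WithConv (A →ₗ[O] T)) (n : ℕ) : (f ^ n).ofConv 1 = f.ofConv 1 ^ n := by
  induction n with
  | zero =>
    show (1 : WithConv (A →ₗ[O] T)) 1 = _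
    rw [LinearMap.convOne_apply, Bialgebra.counit_one, map_one, pow_zero]
  | succ n ih => rw [pow_succ, pow_succ, conv_apply_one, ih]

/-- Precomposition with a coalgebra map, as a monoid map. -/
noncomputable def precomp (h : A ⊗[O] A →ₗc[O] A) :
    WithConv (A →ₗ[O] T) →* WithConv (A ⊗[O] A →ₗ[O] T) where
  toFun f := toConv (f.ofConv.comp h.toLinearMap)
  map_one' := by
    refine WithConv.ext (LinearMap.ext fun a => ?_)
    show algebraMap O T (Coalgebra.counit (R := O) (h a)) = algebraMap O T (Coalgebra.counit (R := O) a)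
    rw [CoalgHomClass.counit_comp_apply]
  map_mul' f g := by
    apply ofConv_injective
    exact LinearMap.convMul_comp_coalgHom_distrib f g h

/-- `z ↦ (a ⊗ b ↦ z a * z b)`. -/
noncomputable def boxProd : WithConv (A →ₗ[O] T) →* WithConv (A ⊗[O] A →ₗ[O] T) where
  toFun f := toConv ((LinearMap.mul' O T).comp (TensorProduct.map f.ofConv f.ofConv))
  map_one' := by
    refine WithConv.ext (TensorProduct.ext' fun a b => ?_)
    show (LinearMap.mul' O T) (TensorProduct.map _ _ (a ⊗ₜ b)) = algebraMap O T (Coalgebra.counit (R := O) (a ⊗ₜ[O] b))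
    rw [TensorProduct.map_tmul, LinearMap.mul'_apply]
    simp [mul_comm]
  map_mul' f g := by
    apply ofConv_injective
    rw [← toConv_ofConv (toConv ((LinearMap.mul' O T).comp (TensorProduct.map (f * g).ofConv (f * g).ofConv))),
      ofConv_toConv]
    have h := LinearMap.algHom_comp_convMul_distrib (Algebra.TensorProduct.lmul' O : T ⊗[O] T →ₐ[O] T)
      (toConv (TensorProduct.map f.ofConv f.ofConv)) (toConv (TensorProduct.map g.ofConv g.ofConv))
    rw [TensorProduct.map_convMul_map] at h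
    simpa [Algebra.TensorProduct.lmul'_toLinearMap] using h

include hm hkill hpT hk hϖ in
/-- Approximate points of a killed group scheme lift uniquely. -/
theorem exists_point (φ₀ : A →ₐ[O] T ⧸ maximalIdeal T ^ (nu (m : T) + k)) :
    ∃ φ : A →ₐ[O] T, ∀ a, Ideal.Quotient.factor (Ideal.pow_le_pow_right (Nat.le_add_left k (nu (m : T))))
      (φ₀ a) = Ideal.Quotient.mk (maximalIdeal T ^ k) (φ a) := by
  obtain ⟨z, hz⟩ := Module.projective_lifting_property
    (Ideal.Quotient.mkₐ O (maximalIdeal T ^ (nu (m : T) + k))).toLinearMap φ₀.toLinearMap Ideal.Quotient.mk_surjective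
  have hpow : ∀ {N : ℕ} {x : T}, x ∈ maximalIdeal T ^ N ↔ ϖ ^ N ∣ x := fun {N x} => by
    rw [hϖ.maximalIdeal_eq, Ideal.span_singleton_pow, Ideal.mem_span_singleton]
  have hzm : ∀ a, ϖ ^ (nu (m : T) + k) ∣ ((toConv z) ^ m - 1).ofConv a := by
    intro a
    have h1 := LinearMap.algHom_comp_convMul_distrib (R := O) (C := A)
      (Ideal.Quotient.mkₐ O (maximalIdeal T ^ (nu (m : T) + k)))
    have h2 : ∀ n, (Ideal.Quotient.mkₐ O (maximalIdeal T ^ (nu (m : T) + k))).toLinearMap.comp ((toConv z) ^ n).ofConv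
        = ((toConv φ₀.toLinearMap) ^ n).ofConv := by
      intro n
      induction n with
      | zero =>
        refine LinearMap.ext fun b => ?_
        simp [pow_zero]
      | succ n ih =>
        rw [pow_succ, h1, ih, ofConv_toConv, hz, toConv_ofConv, ← pow_succ]
    have h3 := LinearMap.congr_fun (h2 m) a
    rw [pow_eq_one_of_killed hkill φ₀] at h3
    rw [← hpow, ← Ideal.Quotient.eq_zero_iff_mem, ofConv_sub, LinearMap.sub_apply, map_sub, sub_eq_zero]
    simpa using h3
  obtain ⟨u, hu, hmu, hbin⟩ := data_conv (O := O) (C := A) hm p hpT hk hϖ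
  have hk1 : 1 ≤ k := Nat.pos_of_mul_pos_left (lt_of_le_of_lt (Nat.zero_le _) hk)
  haveI := complete_conv (O := O) (C := A) hϖ
  obtain ⟨v, hv, hvm⟩ := exists_root (isRegular_conv (O := O) (C := A) hϖ) hu hmu hk1 hbin (w := (toConv z) ^ m)
    (by rw [← map_pow]; exact dvd_of_forall_mem (pow_ne_zero _ hϖ.ne_zero) hzm)
  obtain ⟨z', hz'def⟩ : ∃ z', z' = v * toConv z := ⟨_, rfl⟩
  have hz'm : z' ^ m = 1 := by rw [hz'def, mul_pow, hvm]
  have hclose : algebraMap T (WithConv (A →ₗ[O] T)) ϖ ^ k ∣ z' - toConv z := by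
    rw [show z' - toConv z = (v - 1) * toConv z by rw [hz'def, sub_mul, one_mul]]
    exact Dvd.dvd.mul_right hv _
  have hmk : ∀ a, Ideal.Quotient.mk (maximalIdeal T ^ k) (z'.ofConv a) =
      Ideal.Quotient.factor (Ideal.pow_le_pow_right (Nat.le_add_left k (nu (m : T)))) (φ₀ a) := by
    intro a
    have h1 := dvd_apply (x := z' - toConv z) (c := ϖ ^ k) (by rw [map_pow]; exact hclose) a
    rw [← hpow, ← Ideal.Quotient.eq_zero_iff_mem, ofConv_sub, LinearMap.sub_apply, map_sub, sub_eq_zero] at h1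
    rw [h1, ← show Ideal.Quotient.mk (maximalIdeal T ^ (nu (m : T) + k)) (z a) = φ₀ a from LinearMap.congr_fun hz a]
    rfl
  -- multiplicativity
  obtain ⟨u₂, hu₂, hmu₂, hbin₂⟩ := data_conv (O := O) (C := A ⊗[O] A) hm p hpT hk hϖ
  let X := precomp (T := T) (Bialgebra.mulCoalgHom O A) z'
  let Y := boxProd (T := T) z'
  have hX : X ^ m = 1 := by rw [← map_pow, hz'm, map_one]
  have hY : Y ^ m = 1 := by rw [← map_pow, hz'm, map_one]
  have hXY : algebraMap T (WithConv (A ⊗[O] A →ₗ[O] T)) ϖ ^ k ∣ X - Y := by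
    rw [← map_pow]
    refine dvd_of_forall_mem (pow_ne_zero _ hϖ.ne_zero) fun t => ?_
    rw [← hpow, ← Ideal.Quotient.eq_zero_iff_mem, ofConv_sub, LinearMap.sub_apply, map_sub, sub_eq_zero]
    induction t using TensorProduct.induction_on with
    | zero => simp
    | add a b ha hb => rw [map_add, map_add, map_add, map_add, ha, hb]
    | tmul a b =>
      show Ideal.Quotient.mk _ (z'.ofConv (a * b)) = Ideal.Quotient.mk _ (z'.ofConv a * z'.ofConv b)
      rw [hmk, map_mul, map_mul, ← hmk, ← hmk, ← map_mul]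
  have hm1 : m = (m - 1) + 1 := by omega
  have hr : X * Y ^ (m - 1) = 1 := by
    refine eq_one_of_pow_eq_one (isRegular_conv (O := O) (C := A ⊗[O] A) hϖ) hu₂ hmu₂ hbin₂ (sep_conv (O := O) hϖ) ?_ ?_
    · have : X * Y ^ (m - 1) - 1 = (X - Y) * Y ^ (m - 1) := by
        rw [sub_mul, ← pow_succ', ← hm1, hY]
      rw [this]
      exact Dvd.dvd.mul_right hXY _
    · rw [mul_pow, hX, ← pow_mul, mul_comm (m - 1) m, pow_mul, hY, one_pow, one_mul]
  have hXYeq : X = Y := by
    calc X = X * Y ^ m := by rw [hY, mul_one]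
      _ = (X * Y ^ (m - 1)) * Y := by rw [mul_assoc, ← pow_succ, ← hm1]
      _ = Y := by rw [hr, one_mul]
  have hmul : ∀ a b, z'.ofConv (a * b) = z'.ofConv a * z'.ofConv b := fun a b =>
    LinearMap.congr_fun (congrArg ofConv hXYeq) (a ⊗ₜ b)
  have hone : z'.ofConv 1 = 1 := by
    have h1 : z'.ofConv 1 ^ m = 1 := by
      rw [← conv_apply_one_pow, hz'm]
      show (1 : WithConv (A →ₗ[O] T)) 1 = 1
      rw [LinearMap.convOne_apply, Bialgebra.counit_one, map_one]
    have h2 := hmk 1
    rw [map_one φ₀, map_one (Ideal.Quotient.factor _), ← map_one (Ideal.Quotient.mk (maximalIdeal T ^ k)), Ideal.Quotient.eq, hpow] at h2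
    obtain ⟨l, u', hlu⟩ := IsDiscreteValuationRing.eq_unit_mul_pow_irreducible (Nat.cast_ne_zero.2 hm : (m : T) ≠ 0) hϖ
    have hl : nu (m : T) = l := by
      rw [hlu, nu_mul u'.ne_zero (pow_ne_zero _ hϖ.ne_zero), nu_unit u'.isUnit, nu_pow hϖ.ne_zero, nu,
        IsDiscreteValuationRing.addVal_uniformizer hϖ]
      simp
    refine eq_one_of_pow_eq_one (fun a b h => mul_left_cancel₀ hϖ.ne_zero h) u'.isUnit
      (ν := l) (by rw [mul_comm]; exact hlu) (fun i hi j hj => hl ▸ pow_dvd_choose_mul p hpT hϖ hk m hm i hi j hj)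
      (fun x hx => ?_) h2 h1
    exact IsHausdorff.haus (I := maximalIdeal T) inferInstance _ fun j => by
      rw [SModEq.zero, smul_eq_mul, Ideal.mul_top, hpow]; exact hx j
  exact ⟨AlgHom.ofLinearMap z'.ofConv hone hmul, fun a => (hmk a).symm⟩

include hm hkill hpT hk hϖ in
/-- Points congruent to high order are equal. -/
theorem point_unique (φ φ' : A →ₐ[O] T) (h : ∀ a, φ a - φ' a ∈ maximalIdeal T ^ k) : φ = φ' := by
  obtain ⟨u, hu, hmu, hbin⟩ := data_conv (O := O) (C := A) hm p hpT hk hϖ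
  have hx : toConv φ.toLinearMap * toConv φ'.toLinearMap ^ (m - 1) = 1 := by
    refine eq_one_of_pow_eq_one (isRegular_conv (O := O) (C := A) hϖ) hu hmu hbin (sep_conv (O := O) hϖ) ?_ ?_
    · have : toConv φ.toLinearMap * toConv φ'.toLinearMap ^ (m - 1) - 1 =
          (toConv φ.toLinearMap - toConv φ'.toLinearMap) * toConv φ'.toLinearMap ^ (m - 1) := by
        rw [sub_mul, ← pow_succ', show m - 1 + 1 = m by omega, pow_eq_one_of_killed hkill]
      rw [this]
      refine Dvd.dvd.mul_right ?_ _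
      rw [← map_pow]
      refine dvd_of_forall_mem (pow_ne_zero _ hϖ.ne_zero) fun a => ?_
      rw [← Ideal.mem_span_singleton, ← Ideal.span_singleton_pow, ← hϖ.maximalIdeal_eq]
      exact h a
    · rw [mul_pow, pow_eq_one_of_killed hkill, ← pow_mul, mul_comm (m - 1) m, pow_mul, pow_eq_one_of_killed hkill,
        one_pow, one_mul]
  have h2 : toConv φ.toLinearMap = toConv φ'.toLinearMap := by
    calc toConv φ.toLinearMap = toConv φ.toLinearMap * toConv φ'.toLinearMap ^ m := by
          rw [pow_eq_one_of_killed hkill, mul_one]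
      _ = (toConv φ.toLinearMap * toConv φ'.toLinearMap ^ (m - 1)) * toConv φ'.toLinearMap := by
          rw [mul_assoc, ← pow_succ, show m - 1 + 1 = m by omega]
      _ = _ := by rw [hx, one_mul]
  exact AlgHom.toLinearMap_injective (congrArg ofConv h2)

end Lifting

end Groth.Agent.H06Font
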