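import Groth.Agent.H06Font.Group
import Groth.Agent.H06Font.Final
import Mathlib.RingTheory.Flat.Basic

/-!
# Fontaine's bound for finite flat group schemes killed by a power of `p`
-/

set_option autoImplicit false
set_option linter.style.haveILetI false
set_option linter.unusedSectionVars false
set_option maxHeartbeats 1000000
universe u

open IsLocalRing

namespace Groth.Agent.H06Font

variable {O : Type u} [CommRing O] [IsDomain O] [IsDiscreteValuationRing O] [IsAdicComplete (maximalIdeal O) O]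
  [CharZero O]

theorem isAdicComplete_maximalIdeal {C : Type u} [CommRing C] [IsDomain C] [IsDiscreteValuationRing C]
    [Algebra O C] [Module.Finite O C] (hinj : Function.Injective (algebraMap O C)) :
    IsAdicComplete (maximalIdeal C) C := by
  haveI := isAdicComplete_radMax O C
  suffices h : radMax O C = maximalIdeal C by rw [← h]; infer_instance
  obtain ⟨ϖ, hϖ⟩ := IsDiscreteValuationRing.exists_irreducible O
  rw [radMax, map_maximalIdeal_eq hinj hϖ, Ideal.radical_pow _ ?_, Ideal.IsPrime.radical inferInstance]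
  haveI : IsLocalHom (algebraMap O C) := RingHom.IsIntegral.isLocalHom Algebra.IsIntegral.isIntegral hinj
  intro h0
  exact hϖ.not_isUnit (isUnit_of_map_unit (algebraMap O C) ϖ
    ((nu_eq_zero_iff fun e => hϖ.ne_zero (hinj (e.trans (map_zero _).symm))).1 h0))

theorem comap_pow_maximalIdeal {C R : Type u} [CommRing C] [IsDomain C] [IsDiscreteValuationRing C] [CommRing R]
    [IsDomain R] [IsDiscreteValuationRing R] (ι : C →+* R) (hι : Function.Injective ι) [IsLocalHom ι]
    {π : C} (hπ : Irreducible π) (μ : ℕ) :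
    ∃ k, (maximalIdeal R ^ μ).comap ι = maximalIdeal C ^ k ∧ μ ≤ k * nu (ι π) := by
  classical
  have h0 : ι π ≠ 0 := fun e => hπ.ne_zero (hι (e.trans (map_zero ι).symm))
  have h1 : 1 ≤ nu (ι π) := Nat.one_le_iff_ne_zero.2 fun h =>
    hπ.not_isUnit (isUnit_of_map_unit ι π ((nu_eq_zero_iff h0).1 h))
  have hex : ∃ k, μ ≤ k * nu (ι π) := ⟨μ, Nat.le_mul_of_pos_right μ h1⟩
  refine ⟨Nat.find hex, ?_, Nat.find_spec hex⟩
  ext z
  rw [Ideal.mem_comap, mem_pow_iff, mem_pow_iff, map_eq_zero_iff ι hι]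
  refine or_congr_right' fun hz => ?_
  rw [nu_map ι hι hπ hz]
  exact ⟨fun h => Nat.find_le h, fun h => (Nat.find_spec hex).trans (Nat.mul_le_mul_right _ h)⟩

theorem span_eq_pow {C : Type u} [CommRing C] [IsDomain C] [IsDiscreteValuationRing C] {x : C} (hx : x ≠ 0) :
    Ideal.span {x} = maximalIdeal C ^ nu x := by
  ext z
  rw [Ideal.mem_span_singleton, dvd_iff_nu_le hx, mem_pow_iff]

variable {A : Type u} [CommRing A] [HopfAlgebra O A] [Coalgebra.IsCocomm O A] [Module.Finite O A] [Module.Free O A]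
  (p : ℕ) [Fact p.Prime] {m : ℕ} (hm : m ≠ 0)
  (hkill : SGA3b.powConv O A m = (Algebra.ofId O A).comp (Bialgebra.counitAlgHom O A))

include hm hkill in
theorem lifts_of_group {R : Type u} [CommRing R] [IsDomain R] [IsDiscreteValuationRing R] [Algebra O R] [CharZero R]
    (hpR : (p : R) ∈ maximalIdeal R) : Lifts p A (m : O) R := by
  intro C _ _ _ _ _ _ ι hι hdiv μ hμ
  have hinj : Function.Injective (algebraMap O C) := by
    haveI : Module.Free O C := Module.free_of_flat_of_isLocalRing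
    exact FaithfulSMul.algebraMap_injective O C
  haveI : CharZero C := ⟨fun a b h => Nat.cast_injective (R := R) (by simpa using congrArg ι h)⟩
  haveI := isAdicComplete_maximalIdeal (O := O) (C := C) hinj
  obtain ⟨π, hπ⟩ := IsDiscreteValuationRing.exists_irreducible C
  have hpC : (p : C) ∈ maximalIdeal C := by
    by_contra h
    rw [IsLocalRing.notMem_maximalIdeal] at h
    exact hpR (by simpa using h.map ι)
  have hp0 : (p : C) ≠ 0 := Nat.cast_ne_zero.2 (Fact.out : p.Prime).ne_zero
  haveI : IsLocalHom ι.toRingHom := ⟨fun x hx => by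
    rcases eq_or_ne x 0 with rfl | hx0
    · simp at hx
    by_contra hxu
    obtain ⟨l, u, rfl⟩ := IsDiscreteValuationRing.eq_unit_mul_pow_irreducible hx0 hπ
    have hl : l ≠ 0 := fun h => hxu (by simp [h])
    have hπu : IsUnit (ι π) := by
      have hx' : IsUnit (ι (u : C) * ι π ^ l) := by rw [← map_pow, ← map_mul]; exact hx
      exact (isUnit_pow_iff hl).1 (isUnit_of_mul_isUnit_right hx')
    obtain ⟨l', u', hpe⟩ := IsDiscreteValuationRing.eq_unit_mul_pow_irreducible hp0 hπ
    have hpu : IsUnit (ι (p : C)) := by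
      rw [hpe, map_mul, map_pow]; exact (u'.isUnit.map ι).mul (hπu.pow _)
    exact hpR (by simpa using hpu)⟩
  obtain ⟨k, hI, hk⟩ := comap_pow_maximalIdeal ι.toRingHom hι hπ μ
  have hkC : nu (p : C) < (p - 1) * k := by
    have h1 : nu (p : R) = nu (p : C) * nu (ι.toRingHom π) := by
      rw [← nu_map ι.toRingHom hι hπ hp0, map_natCast]
    have h2 := (h1 ▸ hμ).trans_le (Nat.mul_le_mul_left (p - 1) hk)
    rw [← mul_assoc] at h2
    exact Nat.lt_of_mul_lt_mul_right h2
  refine ⟨fun φ φ' h => ?_, fun ψ => ?_⟩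
  · refine point_unique hm hkill p hpC hkC hπ φ φ' fun a => ?_
    rw [← hI]
    exact Ideal.Quotient.eq.1 (AlgHom.congr_fun h a)
  · have hm0 : algebraMap O C (m : O) ≠ 0 := fun e =>
      hm (Nat.cast_eq_zero.1 (hinj (e.trans (map_zero _).symm)))
    have hJ : Ideal.span {algebraMap O C (m : O)} * (maximalIdeal R ^ μ).comap ι.toRingHom =
        maximalIdeal C ^ (nu (m : C) + k) := by
      rw [hI, span_eq_pow hm0, map_natCast, pow_add]
    obtain ⟨χ, hχ⟩ := exists_point hm hkill p hpC hkC hπ ((Ideal.quotientEquivAlgOfEq O hJ).toAlgHom.comp ψ)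
    refine ⟨χ, AlgHom.ext fun a => ?_⟩
    obtain ⟨c, hc⟩ := Ideal.Quotient.mk_surjective (ψ a)
    have h := hχ a
    rw [AlgHom.comp_apply, ← hc] at h
    replace h : c - χ a ∈ maximalIdeal C ^ k := Ideal.Quotient.eq.1 h
    rw [← hI] at h
    show Ideal.Quotient.mk _ (χ a) = Ideal.Quotient.factor (Ideal.mul_le_right (I := Ideal.span {algebraMap O C (m : O)})
      (J := (maximalIdeal R ^ μ).comap ι.toRingHom)) (ψ a)
    rw [← hc, Ideal.Quotient.factor_mk]
    exact (Ideal.Quotient.eq.2 h).symm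

omit [IsAdicComplete (maximalIdeal O) O] [CharZero O] [Coalgebra.IsCocomm O A] [Module.Free O A] in
theorem ramification_bound_group [CharZero O] [IsAdicComplete (maximalIdeal O) O] [Finite (ResidueField O)]
    (hp : (p : O) ∈ maximalIdeal O) (eK : ℕ) (heK : Ideal.span {(p : O)} = maximalIdeal O ^ eK)
    [Module.Flat O A] [Coalgebra.IsCocomm O A] (n : ℕ) (hn : 1 ≤ n)
    (hkill : SGA3b.powConv O A (p ^ n) = (Algebra.ofId O A).comp (Bialgebra.counitAlgHom O A))
    (L : IntermediateField (FractionRing O) (AlgebraicClosure (FractionRing O)))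
    (hL : L = IntermediateField.adjoin (FractionRing O)
      (⋃ φ : A →ₐ[O] AlgebraicClosure (FractionRing O), Set.range φ))
    [FiniteDimensional (FractionRing O) L]
    [Module.IsTorsionFree O (integralClosure O L)] (P : Ideal (integralClosure O L)) [P.IsMaximal] :
    ∃ d : ℕ, differentIdeal O (integralClosure O L) = P ^ d ∧
      (d : ℚ) < (P.ramificationIdx O : ℚ) * eK * (n + 1 / ((p : ℚ) - 1)) ∧
      ∀ σ : L ≃ₐ[FractionRing O] L, σ ≠ AlgEquiv.refl → ∀ j : ℕ,
        (∀ x : (integralClosure O L), ∃ y ∈ P ^ j, algebraMap (integralClosure O L) L y =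
          σ (algebraMap (integralClosure O L) L x) - algebraMap (integralClosure O L) L x) →
          (j : ℚ) + d ≤ (P.ramificationIdx O : ℚ) * eK * (n + 1 / ((p : ℚ) - 1)) := by
  classical
  haveI : CharZero (FractionRing O) := ⟨fun a b h =>
    Nat.cast_injective (R := O) (IsFractionRing.injective O (FractionRing O) (by simpa using h))⟩
  haveI : IsDiscreteValuationRing (integralClosure O L) := closure_dvr O (FractionRing O) L
  haveI : Module.Finite O (integralClosure O L) := closure_finite O (FractionRing O) L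
  haveI : Module.Flat O (integralClosure O L) := closure_flat O (FractionRing O) L
  haveI : IsGalois (FractionRing O) L := isGalois_points L hL
  haveI : Module.Free O A := Module.free_of_flat_of_isLocalRing
  haveI : PerfectField (ResidueField O) := PerfectField.ofFinite
  have hinj : Function.Injective (algebraMap O (integralClosure O L)) :=
    Module.isTorsionFree_iff_algebraMap_injective.1 inferInstance
  obtain ⟨θ, hθ⟩ := exists_adjoin_eq_top (B := integralClosure O L) hinj
  obtain ⟨ϖ, hϖ⟩ := IsDiscreteValuationRing.exists_irreducible O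
  have hP : P = maximalIdeal (integralClosure O L) := eq_maximalIdeal ‹P.IsMaximal›
  subst hP
  obtain ⟨hp0, heK'⟩ := nu_eq_of_span_eq heK
  have heK1 : 1 ≤ eK := heK' ▸ Nat.one_le_iff_ne_zero.2 fun h => hp ((nu_eq_zero_iff hp0).1 h)
  have hm0 : (p ^ n : ℕ) ≠ 0 := pow_ne_zero n (Fact.out : p.Prime).ne_zero
  have hva : nu ((p ^ n : ℕ) : O) = n * eK := by rw [Nat.cast_pow, nu_pow hp0, heK']
  have hb := fun σ hσ => bound p hp ((p ^ n : ℕ) : O) (Nat.cast_ne_zero.2 hm0)
    (fun R _ _ _ _ _ hpR _ => lifts_of_group p hm0 hkill hpR) L hL θ hθ hϖ (n * eK) eK hva heK'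
    (fun h0 => absurd h0 (Nat.mul_ne_zero (by omega) (by omega))) σ hσ
  refine ⟨_, differentIdeal_eq (K := FractionRing O) hθ, ?_⟩
  rw [ramificationIdx_eq_nu hinj hϖ]
  obtain ⟨e, he⟩ : ∃ e, nu (algebraMap O (integralClosure O L) ϖ) = e := ⟨_, rfl⟩
  obtain ⟨d, hd⟩ : ∃ d, ∑ k ∈ Finset.univ.erase (1 : L ≃ₐ[FractionRing O] L), nu (gam O k θ - θ) = d := ⟨_, rfl⟩
  simp only [he, hd] at hb ⊢
  have he1 : 1 ≤ e := by
    have hϖL : algebraMap O (integralClosure O L) ϖ ≠ 0 := fun h => hϖ.ne_zero (hinj (h.trans (map_zero _).symm))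
    haveI : IsLocalHom (algebraMap O (integralClosure O L)) :=
      RingHom.IsIntegral.isLocalHom Algebra.IsIntegral.isIntegral hinj
    exact he ▸ Nat.one_le_iff_ne_zero.2 fun h =>
      hϖ.not_isUnit (isUnit_of_map_unit (algebraMap O (integralClosure O L)) ϖ ((nu_eq_zero_iff hϖL).1 h))
  obtain ⟨q, hq⟩ : ∃ q, p = q + 1 + 1 := ⟨p - 2, by have := (Fact.out : p.Prime).two_le; omega⟩
  subst hq
  simp only [Nat.add_sub_cancel] at hb
  have hpos : (0 : ℚ) < ((q + 1 : ℕ) : ℚ) := by positivity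
  have hrhs : (e : ℚ) * eK * (n + 1 / (((q + 1 + 1 : ℕ) : ℚ) - 1)) =
      (e : ℚ) * (((q + 1 : ℕ) : ℚ) * ((n : ℚ) * eK) + eK) / ((q + 1 : ℕ) : ℚ) := by
    rw [show ((q + 1 + 1 : ℕ) : ℚ) - 1 = ((q + 1 : ℕ) : ℚ) by push_cast; ring]
    field_simp
  rw [hrhs]
  have hstrict : (q + 1) * d < e * ((q + 1) * (n * eK) + eK) := by
    by_cases hex : ∃ k : L ≃ₐ[FractionRing O] L, k ≠ 1 ∧ nu (gam O k θ - θ) ≠ 0
    · obtain ⟨k, hk, hkn⟩ := hex
      refine lt_of_lt_of_le ?_ (hb k hk)
      exact Nat.mul_lt_mul_of_pos_left (by omega) (Nat.succ_pos q)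
    · push Not at hex
      rw [← hd, Finset.sum_eq_zero fun k hk => hex k (Finset.ne_of_mem_erase hk), mul_zero]
      positivity
  refine ⟨?_, fun σ hσ j hj => ?_⟩
  · rw [lt_div_iff₀ hpos, mul_comm]
    exact_mod_cast hstrict
  · obtain ⟨y, hy, hy'⟩ := hj θ
    have hye : y = gam O σ θ - θ := by
      apply Subtype.ext
      show (y : L) = (gam O σ θ : L) - (θ : L)
      rw [coe_gam]
      exact hy'
    have hjI : j ≤ nu (gam O σ θ - θ) := by
      rw [hye, mem_pow_iff] at hy
      refine hy.resolve_left fun h0 => sub_gam_ne_zero hθ (g := σ) hσ ?_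
      rw [← neg_sub, h0, neg_zero]
    have hb' := (Nat.mul_le_mul_left (q + 1) (Nat.add_le_add_right hjI d)).trans (hb σ hσ)
    rw [le_div_iff₀ hpos, mul_comm]
    exact_mod_cast hb'

end Groth.Agent.H06Font
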