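import Groth.Agent.H06Font.Elim
import Groth.Agent.H06Font.Deriv
import Mathlib.RingTheory.Kaehler.Basic
import Mathlib.RingTheory.Flat.Basic
import Mathlib.LinearAlgebra.Matrix.Adjugate

/-!
# The Jacobian of a complete intersection with free differentials modulo `a`
-/

set_option autoImplicit false
set_option linter.style.haveILetI false
set_option linter.unusedSectionVars false
universe u v

open MvPowerSeries IsLocalRing KaehlerDifferential

namespace Groth.Agent.H06Font

variable {O : Type u} [CommRing O] [IsLocalRing O] [IsNoetherianRing O] [IsAdicComplete (maximalIdeal O) O]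
  {A : Type v} [CommRing A] [Algebra O A] {m : ℕ} (q : MvPowerSeries (Fin m) O →ₐ[O] A)

/-- The defect of the chain rule. -/
noncomputable def defect (f : MvPowerSeries (Fin m) O) : Ω[A⁄O] :=
  D O A (q f) - ∑ j, q (pderiv O j f) • D O A (q (X j))

theorem defect_add (f g : MvPowerSeries (Fin m) O) : defect q (f + g) = defect q f + defect q g := by
  simp only [defect, map_add, add_smul, Finset.sum_add_distrib]
  abel

theorem defect_mul (f g : MvPowerSeries (Fin m) O) : defect q (f * g) = q f • defect q g + q g • defect q f := by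
  simp only [defect, map_mul, Derivation.leibniz, map_add, smul_eq_mul, add_smul, Finset.sum_add_distrib,
    mul_smul, smul_sub, Finset.smul_sum]
  abel

theorem defect_C (c : O) : defect q (C c) = 0 := by
  simp [defect, c_eq_algebraMap, AlgHom.commutes]

theorem defect_X (j : Fin m) : defect q (X j) = 0 := by
  classical
  unfold defect
  rw [Finset.sum_eq_single j]
  · simp
  · intro k _ hk
    rw [pderiv_X_of_ne (Ne.symm hk), map_zero, zero_smul]
  · simp

theorem defect_coe (p : MvPolynomial (Fin m) O) : defect q (p : MvPowerSeries (Fin m) O) = 0 := by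
  induction p using MvPolynomial.induction_on with
  | C c => rw [MvPolynomial.coe_C]; exact defect_C q c
  | add p p' hp hp' => rw [MvPolynomial.coe_add, defect_add, hp, hp', add_zero]
  | mul_X p j hp => rw [MvPolynomial.coe_mul, MvPolynomial.coe_X, defect_mul, hp, defect_X, smul_zero, smul_zero, add_zero]

theorem defect_eq_zero [IsLocalRing A] [IsNoetherianRing A] [Module.Finite A Ω[A⁄O]]
    (hx : ∀ j, q (X j) ∈ maximalIdeal A) (f : MvPowerSeries (Fin m) O) : defect q f = 0 := by
  classical
  refine (inferInstance : IsHausdorff (maximalIdeal A) Ω[A⁄O]).haus _ fun M => ?_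
  rw [SModEq.zero]
  have hd : ∀ g h, defect q (g - h) = defect q g - defect q h := fun g h => by
    rw [eq_sub_iff_add_eq, ← defect_add, sub_add_cancel]
  let p : MvPolynomial (Fin m) O :=
    ∑ β ∈ Fintype.piFinset (fun _ : Fin m => Finset.range (M + 1)), MvPolynomial.monomial (fsupp β) (coeff (fsupp β) f)
  have hmem : f - (p : MvPowerSeries (Fin m) O) ∈
      Ideal.span (Set.range fun j => (X j : MvPowerSeries (Fin m) O) ^ (M + 1)) := by
    convert sub_box_mem (fun _ => M + 1) f using 2
    rw [← MvPolynomial.coeToMvPowerSeries.ringHom_apply, map_sum]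
    exact Finset.sum_congr rfl fun β _ => MvPolynomial.coe_monomial _ _
  have h2 : ∀ g ∈ Ideal.span (Set.range fun j => (X j : MvPowerSeries (Fin m) O) ^ (M + 1)),
      q g ∈ maximalIdeal A ^ M ∧ defect q g ∈ (maximalIdeal A ^ M • ⊤ : Submodule A Ω[A⁄O]) := by
    intro g hg
    induction hg using Submodule.span_induction with
    | mem y hy =>
      obtain ⟨j, rfl⟩ := hy
      refine ⟨?_, ?_⟩
      · rw [map_pow]
        exact Ideal.pow_le_pow_right (Nat.le_succ M) (Ideal.pow_mem_pow (hx j) _)
      · show defect q ((X j : MvPowerSeries (Fin m) O) ^ (M + 1)) ∈ _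
        rw [show (X j : MvPowerSeries (Fin m) O) ^ (M + 1) =
          (((MvPolynomial.X j) ^ (M + 1) : MvPolynomial (Fin m) O) : MvPowerSeries (Fin m) O) by simp, defect_coe]
        exact zero_mem _
    | zero => exact ⟨by simp, by simp [defect]⟩
    | add y z _ _ hy hz => exact ⟨by rw [map_add]; exact add_mem hy.1 hz.1, by rw [defect_add]; exact add_mem hy.2 hz.2⟩
    | smul c y _ hy =>
      refine ⟨by rw [smul_eq_mul, map_mul]; exact Ideal.mul_mem_left _ _ hy.1, ?_⟩
      rw [smul_eq_mul, defect_mul]
      exact add_mem (Submodule.smul_mem _ _ hy.2) (Submodule.smul_mem_smul hy.1 Submodule.mem_top)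
  have := (h2 _ hmem).2
  rwa [hd, defect_coe, sub_zero] at this

theorem D_map [IsLocalRing A] [IsNoetherianRing A] [Module.Finite A Ω[A⁄O]]
    (hx : ∀ j, q (X j) ∈ maximalIdeal A) (f : MvPowerSeries (Fin m) O) :
    D O A (q f) = ∑ j, q (pderiv O j f) • D O A (q (X j)) :=
  sub_eq_zero.1 (defect_eq_zero q hx f)

/-- Relations between the differentials of the coordinates come from the Jacobian. -/
theorem ker_le_rows (hq : Function.Surjective q) (g : Fin m → MvPowerSeries (Fin m) O)
    (hker : RingHom.ker q = Ideal.span (Set.range g)) (c : Fin m → A)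
    (hc : ∑ j, c j • D O A (q (X j)) = 0) :
    c ∈ Submodule.span A (Set.range fun i => fun j => q (pderiv O j (g i))) := by
  classical
  let N := Submodule.span A (Set.range fun i => fun j => q (pderiv O j (g i)))
  let Q := (Fin m → A) ⧸ N
  have hwd : ∀ f ∈ RingHom.ker q, (fun j => q (pderiv O j f)) ∈ N := by
    intro f hf
    rw [hker] at hf
    induction hf using Submodule.span_induction with
    | mem y hy => obtain ⟨i, rfl⟩ := hy; exact Submodule.subset_span ⟨i, rfl⟩
    | zero => convert zero_mem N using 1; funext j; simp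
    | add y z _ _ hy hz => simpa [Pi.add_def] using add_mem hy hz
    | smul d y hy' hy =>
      have h0 : q y = 0 := by rw [← RingHom.mem_ker, hker]; exact hy'
      have : (fun j => q (pderiv O j (d • y))) = q d • fun j => q (pderiv O j y) := by
        funext j
        simp [Derivation.leibniz, h0]
      rw [this]
      exact Submodule.smul_mem _ _ hy
  choose s hs using hq
  let Δ : A → Q := fun z => Submodule.Quotient.mk fun j => q (pderiv O j (s z))
  have hΔ : ∀ f, Δ (q f) = Submodule.Quotient.mk fun j => q (pderiv O j f) := by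
    intro f
    refine (Submodule.Quotient.eq N).2 ?_
    have := hwd (s (q f) - f) (by rw [RingHom.mem_ker, map_sub, hs, sub_self])
    simpa [Pi.sub_def] using this
  let δ : Derivation O A Q := Derivation.mk'
    { toFun := Δ
      map_add' := fun y z => by
        rw [← hs y, ← hs z, ← map_add, hΔ, hΔ, hΔ, ← Submodule.Quotient.mk_add]
        congr 1; funext j; simp
      map_smul' := fun o y => by
        rw [← hs y, ← map_smul, hΔ, hΔ, RingHom.id_apply, ← Submodule.Quotient.mk_smul]
        congr 1; funext j; simp }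
    fun y z => by
      show Δ (y * z) = y • Δ z + z • Δ y
      rw [← hs y, ← hs z, ← map_mul, hΔ, hΔ, hΔ, ← Submodule.Quotient.mk_smul, ← Submodule.Quotient.mk_smul,
        ← Submodule.Quotient.mk_add]
      congr 1; funext j; simp [Derivation.leibniz]
  have h1 := congrArg δ.liftKaehlerDifferential hc
  rw [map_sum, map_zero] at h1
  simp only [map_smul, Derivation.liftKaehlerDifferential_comp_D] at h1
  have h2 : ∀ k, δ (q (X k)) = Submodule.Quotient.mk (Pi.single k 1) := fun k => by
    show Δ _ = _
    rw [hΔ]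
    congr 1; funext j
    rcases eq_or_ne j k with rfl | hjk
    · simp
    · rw [pderiv_X_of_ne (Ne.symm hjk), map_zero, Pi.single_eq_of_ne hjk]
  simp only [h2, ← Submodule.mkQ_apply] at h1
  simp only [← map_smul, ← map_sum] at h1
  rw [Submodule.mkQ_apply, Submodule.Quotient.mk_eq_zero] at h1
  convert h1 using 1
  funext j
  simp [Finset.sum_apply, Pi.single_apply]

/-- The reduced presentation with Jacobian `a` times an invertible matrix. -/
theorem exists_presentation [Module.Finite O A] [Module.Flat O A] [Nontrivial A] (a : O)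
    (ha : IsSMulRegular O a) (f : Fin m → MvPowerSeries (Fin m) O)
    (e : (MvPowerSeries (Fin m) O ⧸ Ideal.span (Set.range f)) ≃ₐ[O] A) (r : ℕ)
    (hΩ : Nonempty (Ω[A⁄O] ≃ₗ[A] (Fin r → A ⧸ Ideal.span {algebraMap O A a}))) :
    ∃ (n : ℕ) (g : Fin n → MvPowerSeries (Fin n) O) (U V : Matrix (Fin n) (Fin n) (MvPowerSeries (Fin n) O))
      (q : MvPowerSeries (Fin n) O →ₐ[O] A), Function.Surjective q ∧ RingHom.ker q = Ideal.span (Set.range g) ∧
      (∀ j, q (X j) ∈ (⊥ : Ideal A).jacobson) ∧
      (∀ i j, pderiv O j (g i) - C a * U i j ∈ Ideal.span (Set.range g)) ∧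
      ∀ i j, (U * V - 1) i j ∈ Ideal.span (Set.range g) := by
  classical
  obtain ⟨n, g, ⟨e'⟩, hg⟩ := exists_minimal m f e
  let q : MvPowerSeries (Fin n) O →ₐ[O] A := e'.toAlgHom.comp (Ideal.Quotient.mkₐ O _)
  have hq : Function.Surjective q := e'.surjective.comp Ideal.Quotient.mk_surjective
  have hker : RingHom.ker q = Ideal.span (Set.range g) := by
    ext z
    exact (map_eq_zero_iff e' e'.injective).trans Ideal.Quotient.eq_zero_iff_mem
  haveI : IsLocalRing A := IsLocalRing.of_surjective' q.toRingHom hq
  haveI : IsNoetherianRing A := IsNoetherianRing.of_finite O A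
  obtain ⟨θ⟩ := hΩ
  haveI : Module.Finite A Ω[A⁄O] := Module.Finite.equiv θ.symm
  haveI : IsLocalHom q.toRingHom := .of_surjective _ hq
  have hmax : ∀ z ∈ maximalIdeal (MvPowerSeries (Fin n) O), q z ∈ maximalIdeal A := fun z hz hu =>
    hz (isUnit_of_map_unit q.toRingHom z hu)
  have hx : ∀ j, q (X j) ∈ maximalIdeal A := fun j => hmax _ (X_mem_maximal j)
  have hrow : ∀ i, (fun j => q (pderiv O j (g i))) ∈ Submodule.pi Set.univ fun _ : Fin n => maximalIdeal A := by
    intro i j _
    refine hmax _ ?_
    have hcoef := hg i j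
    rw [mem_maximalIdeal, mem_nonunits_iff, isUnit_iff_constantCoeff, ← coeff_zero_eq_constantCoeff_apply,
      coeff_pderiv]
    simpa using hcoef
  let L : (Fin n → A) →ₗ[A] Ω[A⁄O] := Fintype.linearCombination A fun j => D O A (q (X j))
  have hL : ∀ c, L c = ∑ j, c j • D O A (q (X j)) := fun c => rfl
  have hLs : Function.Surjective L := by
    rw [← LinearMap.range_eq_top, eq_top_iff, ← span_range_derivation, Submodule.span_le]
    rintro _ ⟨z, rfl⟩
    obtain ⟨f', rfl⟩ := hq z
    exact ⟨fun j => q (pderiv O j f'), (D_map q hx f').symm⟩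
  have hkill : ∀ w : Ω[A⁄O], algebraMap O A a • w = 0 := fun w => θ.injective (by
    rw [map_smul, map_zero]
    funext k
    obtain ⟨z, hz⟩ := Ideal.Quotient.mk_surjective (θ w k)
    rw [Pi.smul_apply, ← hz, Pi.zero_apply, Algebra.smul_def, Ideal.Quotient.algebraMap_eq, ← map_mul,
      Ideal.Quotient.eq_zero_iff_mem]
    exact Ideal.mul_mem_right _ _ (Ideal.mem_span_singleton_self _))
  choose w hw using fun k => hLs (θ.symm (Pi.single k 1))
  let N := Submodule.span A (Set.range fun i => fun j => q (pderiv O j (g i)))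
  have hkerN : LinearMap.ker L ≤ N := fun c hc => ker_le_rows q hq g hker c ((hL c).symm.trans hc)
  have hNm : N ≤ maximalIdeal A • (⊤ : Submodule A (Fin n → A)) := by
    rw [Submodule.span_le]
    rintro _ ⟨i, rfl⟩
    show (fun j => q (pderiv O j (g i))) ∈ maximalIdeal A • (⊤ : Submodule A (Fin n → A))
    rw [show (fun j => q (pderiv O j (g i))) = ∑ j, q (pderiv O j (g i)) • (Pi.single j 1 : Fin n → A)
      from pi_eq_sum_univ' _]
    exact sum_mem fun j _ => Submodule.smul_mem_smul (hrow i j (Set.mem_univ _)) Submodule.mem_top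
  let Wsp := Submodule.span A (Set.range w)
  have hdecomp : ∀ c, ∃ b : Fin r → A, L (c - ∑ k, b k • w k) = 0 := fun c => by
    choose b hb using fun k => Ideal.Quotient.mk_surjective (θ (L c) k)
    refine ⟨b, θ.injective ?_⟩
    rw [map_sub, map_sum, map_sub, map_sum, map_zero]
    simp only [map_smul, hw, LinearEquiv.apply_symm_apply]
    funext k
    simp [Finset.sum_apply, Pi.single_apply, ← hb k, Algebra.smul_def, Ideal.Quotient.algebraMap_eq]
  have hWsp : (⊤ : Submodule A (Fin n → A)) ≤ Wsp := by
    refine Submodule.le_of_le_smul_of_le_jacobson_bot (I := maximalIdeal A) Module.Finite.fg_top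
      (maximalIdeal_le_jacobson _) fun c _ => ?_
    obtain ⟨b, hb⟩ := hdecomp c
    rw [← add_sub_cancel (∑ k, b k • w k) c]
    exact Submodule.add_mem_sup (sum_mem fun k _ => Submodule.smul_mem _ _ (Submodule.subset_span ⟨k, rfl⟩))
      (hNm (hkerN hb))
  have hkera : ∀ c, L c = 0 → ∀ j, c j ∈ Ideal.span {algebraMap O A a} := by
    intro c hc
    obtain ⟨b, hb⟩ := (Submodule.mem_span_range_iff_exists_fun A).1 (hWsp (Submodule.mem_top (x := c)))
    have h1 := congrArg θ hc
    rw [← hb, map_sum, map_sum, map_zero] at h1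
    simp only [map_smul, hw, LinearEquiv.apply_symm_apply] at h1
    have hbk : ∀ k, b k ∈ Ideal.span {algebraMap O A a} := fun k => by
      have h2 := congrFun h1 k
      simpa [Finset.sum_apply, Pi.single_apply, Algebra.smul_def, Ideal.Quotient.algebraMap_eq,
        Ideal.Quotient.eq_zero_iff_mem] using h2
    intro j
    rw [← hb, Finset.sum_apply]
    exact sum_mem fun k _ => Ideal.mul_mem_right _ _ (hbk k)
  have hrel : ∀ i, L (fun j => q (pderiv O j (g i))) = 0 := fun i => by
    rw [hL, ← D_map q hx, show q (g i) = 0 by rw [← RingHom.mem_ker, hker]; exact Ideal.subset_span ⟨i, rfl⟩, map_zero]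
  choose u hu' using fun i j => Ideal.mem_span_singleton'.1 (hkera _ (hrel i) j)
  have haA : ∀ z : A, algebraMap O A a * z = 0 → z = 0 := fun z hz =>
    (IsSMulRegular.of_flat ha : IsSMulRegular A (algebraMap O A a)).right_eq_zero_of_smul
      (by rw [smul_eq_mul]; exact hz)
  have hv : ∀ k : Fin n, ∃ v : Fin n → A, ∀ j, ∑ i, v i * u i j = (1 : Matrix (Fin n) (Fin n) A) k j := by
    intro k
    have hk : (algebraMap O A a) • (Pi.single k 1 : Fin n → A) ∈ N := hkerN (by
      show L _ = 0
      rw [map_smul]
      exact hkill _)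
    obtain ⟨v, hv⟩ := (Submodule.mem_span_range_iff_exists_fun A).1 hk
    refine ⟨v, fun j => ?_⟩
    rw [← sub_eq_zero]
    refine haA _ ?_
    rw [mul_sub, sub_eq_zero, Finset.mul_sum]
    have h2 := congrFun hv j
    simp only [Finset.sum_apply, Pi.smul_apply, smul_eq_mul] at h2
    rw [Matrix.one_eq_pi_single, ← h2]
    exact Finset.sum_congr rfl fun i _ => by rw [← hu']; ring
  choose v hv using hv
  have hvu : (Matrix.of v) * (Matrix.of u) = 1 := by
    ext k j
    rw [Matrix.mul_apply]
    exact hv k j
  have huv : (Matrix.of u) * (Matrix.of v) = 1 := mul_eq_one_comm.1 hvu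
  choose U hU using fun i j => hq (u i j)
  choose V hV using fun i j => hq (v i j)
  refine ⟨n, g, U, V, q, hq, hker, fun j => maximalIdeal_le_jacobson _ (hx j), fun i j => ?_, fun i j => ?_⟩
  · rw [← hker, RingHom.mem_ker, map_sub, map_mul, c_eq_algebraMap, q.commutes, hU, ← hu', mul_comm, sub_self]
  · rw [← hker, RingHom.mem_ker, Matrix.sub_apply, map_sub, Matrix.mul_apply, map_sum]
    simp only [map_mul, hU, hV]
    have := congrFun (congrFun huv i) j
    rw [Matrix.mul_apply] at this
    simp only [Matrix.of_apply] at this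
    rw [this, Matrix.one_apply, Matrix.one_apply]
    split_ifs <;> simp

end Groth.Agent.H06Font
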