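import Groth.Agent.H06Font.Newton
import Groth.Agent.H06Font.Present
import Groth.Agent.H24Adic.Rig
import Groth.Agent.S16105
import Mathlib.RingTheory.DiscreteValuationRing.Basic

/-!
# Fontaine's lifting lemma
-/

set_option autoImplicit false
set_option linter.style.haveILetI false
set_option linter.unusedSectionVars false
universe u v w

open MvPowerSeries IsLocalRing W4c1noabschz1

namespace Groth.Agent.H06Font

variable (O : Type u) [CommRing O] [IsDomain O] [IsDiscreteValuationRing O]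
  [IsAdicComplete (maximalIdeal O) O]

theorem quotient_isHausdorff {S : Type w} [CommRing S] [IsNoetherianRing S] {R₀ : Ideal S}
    (h : R₀ ≤ (⊥ : Ideal S).jacobson) (J : Ideal S) :
    IsHausdorff (R₀.map (Ideal.Quotient.mk J)) (S ⧸ J) :=
  haveI : IsHausdorff R₀ (S ⧸ J) := IsHausdorff.of_le_jacobson _ _ h
  (IsHausdorff.map_algebraMap_iff (S := S ⧸ J)).2 inferInstance

theorem mem_of_forall_mem_sup {S : Type w} [CommRing S] [IsNoetherianRing S] {R₀ : Ideal S}
    (h : R₀ ≤ (⊥ : Ideal S).jacobson) (J : Ideal S) (z : S) (hz : ∀ M : ℕ, z ∈ J ⊔ R₀ ^ M) : z ∈ J := by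
  rw [← Ideal.Quotient.eq_zero_iff_mem]
  refine (quotient_isHausdorff h J).haus _ fun M => ?_
  rw [SModEq.zero, smul_eq_mul, Ideal.mul_top, ← Ideal.map_pow]
  obtain ⟨x, hx, y, hy, rfl⟩ := Submodule.mem_sup.1 (hz M)
  rw [map_add, Ideal.Quotient.eq_zero_iff_mem.2 hx, zero_add]
  exact Ideal.mem_map_of_mem _ hy

/-- The radical of the extended maximal ideal. -/
abbrev radMax (S : Type w) [CommRing S] [Algebra O S] : Ideal S :=
  ((maximalIdeal O).map (algebraMap O S)).radical

theorem isAdicComplete_radMax (S : Type w) [CommRing S] [Algebra O S] [Module.Finite O S] :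
    IsAdicComplete (radMax O S) S := by
  haveI : IsNoetherianRing S := IsNoetherianRing.of_finite O S
  haveI : IsAdicComplete (maximalIdeal O) S := H24Adic.isAdicComplete_of_finite _
  haveI : IsAdicComplete ((maximalIdeal O).map (algebraMap O S)) S :=
    (IsAdicComplete.map_algebraMap_iff (maximalIdeal O) S (S := S)).2 inferInstance
  exact H24Adic.isAdicComplete_radical _

theorem exists_dpPow_le {S : Type w} [CommRing S] [Algebra O S] [Module.Finite O S] {I : Ideal S}
    (hI : DividedPowers I) (htn : IsDPTopNilpotent hI) (M : ℕ) : ∃ n, dpPow hI n ≤ radMax O S ^ M := by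
  haveI : IsNoetherianRing S := IsNoetherianRing.of_finite O S
  haveI := isAdicComplete_radMax O S
  let mS := (maximalIdeal O).map (algebraMap O S)
  let F : ℕ → Submodule O S := fun n => (dpPow hI n ⊔ mS ^ n).restrictScalars O
  have hanti : Antitone F := fun a b h => by
    show (dpPow hI b ⊔ mS ^ b : Ideal S) ≤ dpPow hI a ⊔ mS ^ a
    exact sup_le_sup (dpPow_antitone hI h) (Ideal.pow_le_pow_right h)
  have hpow : ∀ j, (maximalIdeal O ^ j • ⊤ : Submodule O S) ≤ F j := fun j => by
    rw [Ideal.smul_top_eq_map, Ideal.map_pow]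
    show (mS ^ j : Ideal S) ≤ dpPow hI j ⊔ mS ^ j
    exact le_sup_right
  have hbot : ∀ x, (∀ j, x ∈ F j) → x = 0 := by
    intro x hx
    have : x ∈ ⨅ n, dpPow hI n := Ideal.mem_iInf.2 fun n =>
      mem_of_forall_mem_sup (IsAdicComplete.le_jacobson_bot _) (dpPow hI n) x fun M => by
        have h1 : x ∈ dpPow hI (n + M) ⊔ mS ^ (n + M) := hx (n + M)
        exact sup_le_sup (dpPow_antitone hI (Nat.le_add_right n M))
          ((Ideal.pow_le_pow_right (Nat.le_add_left M n)).trans (Ideal.pow_right_mono Ideal.le_radical M)) h1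
    rwa [htn, Ideal.mem_bot] at this
  obtain ⟨n, hn⟩ := Groth.Agent.S16105.chevalley_lemma (maximalIdeal O) F hanti hpow hbot M
  refine ⟨n, fun z hz => ?_⟩
  have h1 : z ∈ (maximalIdeal O ^ M • ⊤ : Submodule O S) := hn (show z ∈ dpPow hI n ⊔ mS ^ n from Submodule.mem_sup_left hz)
  rw [Ideal.smul_top_eq_map, Ideal.map_pow] at h1
  exact Ideal.pow_right_mono Ideal.le_radical M h1

theorem le_radMax {S : Type w} [CommRing S] [Algebra O S] {I : Ideal S} (hI : DividedPowers I) (p : ℕ)
    [Fact p.Prime] (hp : (p : O) ∈ maximalIdeal O) : I ≤ radMax O S := by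
  intro x hx
  refine ⟨p, ?_⟩
  rw [← hI.factorial_mul_dpow_eq_pow hx]
  obtain ⟨c, hc⟩ := Nat.dvd_factorial (Fact.out : p.Prime).pos le_rfl
  rw [hc, Nat.cast_mul, mul_assoc, ← map_natCast (algebraMap O S) p]
  exact Ideal.mul_mem_right _ _ (Ideal.mem_map_of_mem _ hp)

theorem jacobson_le_radMax (A : Type v) [CommRing A] [Algebra O A] [Module.Finite O A] :
    (⊥ : Ideal A).jacobson ≤ radMax O A := by
  rw [radMax, Ideal.radical_eq_sInf]
  refine le_sInf fun J hJ => ?_
  haveI := hJ.2
  have h1 : J.comap (algebraMap O A) = maximalIdeal O :=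
    le_antisymm (IsLocalRing.le_maximalIdeal (Ideal.IsPrime.ne_top inferInstance))
      (Ideal.map_le_iff_le_comap.1 hJ.1)
  have h2 : J.IsMaximal :=
    Ideal.isMaximal_of_isIntegral_of_isMaximal_comap J (h1.symm ▸ maximalIdeal.isMaximal O)
  exact sInf_le ⟨bot_le, h2⟩

theorem map_radMax {A : Type v} [CommRing A] [Algebra O A] {S : Type w} [CommRing S] [Algebra O S]
    (φ : A →ₐ[O] S) {z : A} (hz : z ∈ radMax O A) : φ z ∈ radMax O S := by
  obtain ⟨N, hN⟩ := hz
  refine ⟨N, ?_⟩
  rw [← map_pow]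
  have := Ideal.mem_map_of_mem φ.toRingHom hN
  rwa [Ideal.map_map, show φ.toRingHom.comp (algebraMap O A) = algebraMap O S from φ.comp_algebraMap] at this

set_option maxHeartbeats 1000000 in
theorem lift_main [CharZero O] (p : ℕ) [Fact p.Prime]
    (hp : (p : O) ∈ maximalIdeal O)
    (m : ℕ) (f : Fin m → MvPowerSeries (Fin m) O) (A : Type v) [CommRing A] [Algebra O A]
    (e : (MvPowerSeries (Fin m) O ⧸ Ideal.span (Set.range f)) ≃ₐ[O] A)
    [Module.Finite O A] [Module.Flat O A] (a : O) (ha : a ≠ 0) (r : ℕ)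
    (hΩ : Nonempty (KaehlerDifferential O A ≃ₗ[A] (Fin r → A ⧸ Ideal.span {algebraMap O A a})))
    (S : Type w) [CommRing S] [Algebra O S] [Module.Finite O S] [Module.Flat O S]
    (I : Ideal S) (hI : DividedPowers I) (htn : IsDPTopNilpotent hI) :
    Function.Injective (fun χ : A →ₐ[O] S => (Ideal.Quotient.mkₐ O I).comp χ) ∧
      Set.range (fun χ : A →ₐ[O] S => (Ideal.Quotient.mkₐ O I).comp χ) =
        Set.range (fun ψ : A →ₐ[O] (S ⧸ Ideal.span {algebraMap O S a} * I) =>
          (Ideal.Quotient.factorₐ O (Ideal.mul_le_right (I := Ideal.span {algebraMap O S a}) (J := I))).comp ψ) := by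
  classical
  haveI : IsNoetherianRing S := IsNoetherianRing.of_finite O S
  haveI hS := isAdicComplete_radMax O S
  have hIR : I ≤ radMax O S := le_radMax O hI p hp
  have hjac := IsAdicComplete.le_jacobson_bot (radMax O S)
  let J := Ideal.span {algebraMap O S a} * I
  have hcomp : ∀ χ : A →ₐ[O] S,
      (Ideal.Quotient.factorₐ O (Ideal.mul_le_right (I := Ideal.span {algebraMap O S a}) (J := I))).comp
        ((Ideal.Quotient.mkₐ O J).comp χ) = (Ideal.Quotient.mkₐ O I).comp χ := fun χ => AlgHom.ext fun z => rfl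
  rcases subsingleton_or_nontrivial A with hA | hA
  · refine ⟨fun χ χ' _ => AlgHom.ext fun z => by rw [Subsingleton.elim z 0, map_zero, map_zero],
      le_antisymm ?_ ?_⟩
    · rintro _ ⟨χ, rfl⟩
      exact ⟨_, hcomp χ⟩
    · rintro _ ⟨ψ, rfl⟩
      have h1 : (1 : S ⧸ J) = 0 := by rw [← map_one ψ, Subsingleton.elim (1 : A) 0, map_zero]
      have h2 : (1 : S) ∈ J := Ideal.Quotient.eq_zero_iff_mem.1 (by rwa [map_one])
      have h3 := Ideal.mem_jacobson_bot.1 (hjac (hIR (Ideal.mul_le_right h2))) (-1)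
      rw [show (1 : S) * -1 + 1 = 0 by ring, isUnit_zero_iff] at h3
      haveI : Subsingleton S := subsingleton_of_zero_eq_one h3
      haveI : Subsingleton (S ⧸ I) := Function.Surjective.subsingleton (Ideal.Quotient.mk_surjective (I := I))
      refine ⟨
        { toFun := fun _ => 0
          map_one' := Subsingleton.elim _ _
          map_mul' := fun _ _ => Subsingleton.elim _ _
          map_zero' := rfl
          map_add' := fun _ _ => Subsingleton.elim _ _
          commutes' := fun _ => Subsingleton.elim _ _ }, AlgHom.ext fun _ => Subsingleton.elim _ _⟩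
  obtain ⟨n, g, U, V, q, hq, hker, hqX, hJ', hUV⟩ :=
    exists_presentation a (fun x y h => mul_left_cancel₀ ha h : IsSMulRegular O a) f e r hΩ
  have haS : ∀ z : S, algebraMap O S a * z = 0 → z = 0 := fun z hz =>
    (IsSMulRegular.of_flat (fun x y h => mul_left_cancel₀ ha h : IsSMulRegular O a) :
      IsSMulRegular S (algebraMap O S a)).right_eq_zero_of_smul (by rw [smul_eq_mul]; exact hz)
  have hclosed := mem_of_forall_mem_sup hjac
  have hdp := exists_dpPow_le O hI htn
  have hχR : ∀ (φ : A →ₐ[O] S) j, φ (q (X j)) ∈ radMax O S := fun φ j =>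
    map_radMax O φ (jacobson_le_radMax O A (hqX j))
  have hqg : ∀ i, q (g i) = 0 := fun i => by
    rw [← RingHom.mem_ker, hker]; exact Ideal.subset_span ⟨i, rfl⟩
  refine ⟨fun φ φ' hφ => ?_, le_antisymm ?_ ?_⟩
  · let χ := φ.comp q
    have hg0 : ∀ i, χ (g i) = 0 := fun i => (congrArg φ (hqg i)).trans (map_zero _)
    have hg0' : ∀ i, (φ'.comp q) (g i) = 0 := fun i => (congrArg φ' (hqg i)).trans (map_zero _)
    have hgI : ∀ i, χ (g i) ∈ Ideal.span {algebraMap O S a} * I := fun i => by rw [hg0]; exact zero_mem _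
    obtain ⟨W, hWu, hW⟩ := exists_W (radMax O S) hIR a g U V hJ' hUV χ hgI
    have heq := unique_solution hI (radMax O S) hIR hclosed hdp a haS g U hJ' χ hgI (hχR φ) W hW hWu htn
      (φ'.comp q) (fun j => Ideal.Quotient.eq.1 (AlgHom.congr_fun hφ (q (X j))).symm) hg0 hg0'
    have := H02CA.PS.algHom_ext (radMax O S) (hχR φ') heq
    refine AlgHom.ext fun z => ?_
    obtain ⟨z, rfl⟩ := hq z
    exact (AlgHom.congr_fun this z).symm
  · rintro _ ⟨χ, rfl⟩
    exact ⟨_, hcomp χ⟩
  · rintro _ ⟨ψ, rfl⟩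
    choose y hy using fun j => Ideal.Quotient.mk_surjective (I := J) (ψ (q (X j)))
    have hyR : ∀ j, y j ∈ radMax O S := fun j => by
      obtain ⟨N, hN⟩ := map_radMax O ψ (jacobson_le_radMax O A (hqX j))
      rw [← hy j, ← map_pow, show (maximalIdeal O).map (algebraMap O (S ⧸ J)) =
        ((maximalIdeal O).map (algebraMap O S)).map (Ideal.Quotient.mk J) by rw [Ideal.map_map]; rfl,
        Ideal.mem_map_iff_of_surjective _ Ideal.Quotient.mk_surjective] at hN
      obtain ⟨s, hs, hs'⟩ := hN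
      refine (Ideal.radical_idem _).le ⟨N, ?_⟩
      rw [← add_sub_cancel s (y j ^ N)]
      exact add_mem (Ideal.le_radical hs) (hIR (Ideal.mul_le_right (Ideal.Quotient.eq.1 hs'.symm)))
    obtain ⟨χ, hχ⟩ := H02CA.PS.exists_algHom (R := O) (radMax O S) y hyR
    have hcmp : (Ideal.Quotient.mkₐ O J).comp χ = ψ.comp q := by
      haveI := quotient_isHausdorff (S := S) hjac J
      refine H02CA.PS.algHom_ext ((radMax O S).map (Ideal.Quotient.mk J)) (fun j => ?_) fun j => ?_
      · exact Ideal.mem_map_of_mem _ (hχ j ▸ hyR j)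
      · show Ideal.Quotient.mk J (χ (X j)) = ψ (q (X j))
        exact (congrArg _ (hχ j)).trans (hy j)
    have hgI : ∀ i, χ (g i) ∈ Ideal.span {algebraMap O S a} * I := fun i =>
      Ideal.Quotient.eq_zero_iff_mem.1 ((AlgHom.congr_fun hcmp (g i)).trans
        ((congrArg ψ (hqg i)).trans (map_zero _)))
    have hχR' : ∀ j, χ (X j) ∈ radMax O S := fun j => by rw [hχ]; exact hyR j
    obtain ⟨W, hWu, hW⟩ := exists_W (radMax O S) hIR a g U V hJ' hUV χ hgI
    obtain ⟨χ', hd, hR', h0⟩ := exists_solution hI (radMax O S) hIR hclosed hdp a g U hJ' χ hgI hχR' W hW hWu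
    have hle : RingHom.ker q ≤ RingHom.ker χ' := by
      rw [hker, Ideal.span_le]
      rintro _ ⟨i, rfl⟩
      exact h0 i
    let φ : A →ₐ[O] S := AlgHom.liftOfSurjective q hq χ' hle
    have hφ : ∀ z, φ (q z) = χ' z := fun z =>
      AlgHom.congr_fun (AlgHom.liftOfSurjective_comp q hq χ' hle) z
    refine ⟨φ, AlgHom.ext fun z => ?_⟩
    obtain ⟨z, rfl⟩ := hq z
    haveI := quotient_isHausdorff (S := S) hjac I
    have h1 : (Ideal.Quotient.mkₐ O I).comp χ' = (Ideal.Quotient.mkₐ O I).comp χ :=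
      H02CA.PS.algHom_ext ((radMax O S).map (Ideal.Quotient.mk I))
        (fun j => Ideal.mem_map_of_mem _ (hR' j)) fun j => Ideal.Quotient.eq.2 (hd j)
    show Ideal.Quotient.mk I (φ (q z)) = Ideal.Quotient.factor (Ideal.mul_le_right (I := Ideal.span {algebraMap O S a}) (J := I)) (ψ (q z))
    rw [hφ]
    exact (AlgHom.congr_fun h1 z).trans
      (congrArg (Ideal.Quotient.factor (Ideal.mul_le_right (I := Ideal.span {algebraMap O S a}) (J := I))) (AlgHom.congr_fun hcmp z))

end Groth.Agent.H06Font
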