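import Groth.Agent.H06Font.Perturb
import Mathlib.RingTheory.Unramified.Basic
import Mathlib.FieldTheory.Normal.Closure

/-!
# Fontaine's bound on ramification
-/

set_option autoImplicit false
set_option linter.style.haveILetI false
set_option linter.unusedSectionVars false
set_option maxHeartbeats 2000000
universe u

open IsLocalRing Polynomial IntermediateField

namespace Groth.Agent.H06Font

theorem finite_algHom {O A B : Type u} [CommRing O] [CommRing A] [Algebra O A] [Module.Finite O A]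
    [CommRing B] [IsDomain B] [Algebra O B] : Finite (A →ₐ[O] B) := by
  obtain ⟨n, s, hs⟩ := Module.Finite.exists_fin (R := O) (M := A)
  have key : ∀ i, Finite {b : B // ∃ φ : A →ₐ[O] B, φ (s i) = b} := by
    intro i
    obtain ⟨P, hP, he⟩ := (Algebra.IsIntegral.isIntegral (s i) : IsIntegral O (s i))
    refine Set.Finite.to_subtype ((Polynomial.finite_setOf_isRoot ((hP.map (algebraMap O B)).ne_zero)).subset ?_)
    rintro _ ⟨φ, rfl⟩
    show (P.map (algebraMap O B)).IsRoot (φ (s i))
    rw [IsRoot, eval_map_algebraMap, aeval_algHom_apply, aeval_def, he, map_zero]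
  refine Finite.of_injective
    (fun (φ : A →ₐ[O] B) (i : Fin n) => (⟨φ (s i), φ, rfl⟩ : {b : B // ∃ φ : A →ₐ[O] B, φ (s i) = b})) ?_
  intro φ ψ h
  exact AlgHom.toLinearMap_injective (LinearMap.ext_on_range hs fun i => congrArg Subtype.val (congrFun h i))

section Bound

variable {O K Ω : Type u} [CommRing O] [IsDomain O] [IsDiscreteValuationRing O]
  [IsAdicComplete (maximalIdeal O) O] [CharZero O] [PerfectField (ResidueField O)]
  [Field K] [Algebra O K] [IsFractionRing O K] [CharZero K]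
  [Field Ω] [IsAlgClosed Ω] [Algebra K Ω] [Algebra O Ω] [IsScalarTower O K Ω] [Algebra.IsAlgebraic K Ω]
  (p : ℕ) [Fact p.Prime] (hp : (p : O) ∈ maximalIdeal O) {A : Type u} [CommRing A] [Algebra O A]
  [Module.Finite O A] (a : O) (ha : a ≠ 0) (r : ℕ)
  (hΩ : Nonempty (KaehlerDifferential O A ≃ₗ[A] (Fin r → A ⧸ Ideal.span {algebraMap O A a})))
  (hlift : ∀ (R : Type u) [CommRing R] [IsDomain R] [IsDiscreteValuationRing R] [Algebra O R] [CharZero R],
    (p : R) ∈ maximalIdeal R → algebraMap O R a ≠ 0 → Lifts p A a R)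
  (L : IntermediateField K Ω) [FiniteDimensional K L]
  (hL : L = IntermediateField.adjoin K (⋃ φ : A →ₐ[O] Ω, Set.range φ))
  [IsGalois K L] [IsDiscreteValuationRing (integralClosure O L)] [Module.Finite O (integralClosure O L)]
  [Module.Flat O (integralClosure O L)] [Module.IsTorsionFree O (integralClosure O L)]
  (θ : integralClosure O L) (hθ : Algebra.adjoin O {θ} = ⊤)

include hL in
theorem range_subset (ψ : A →ₐ[O] Ω) (z : A) : ψ z ∈ L := by
  rw [hL]
  exact IntermediateField.subset_adjoin K _ (Set.mem_iUnion.2 ⟨ψ, Set.mem_range_self z⟩)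

include hL in
theorem exists_lift (ψ : A →ₐ[O] Ω) :
    ∃ φ : A →ₐ[O] integralClosure O L, ∀ z, (((φ z : integralClosure O L) : L) : Ω) = ψ z := by
  let φ₀ : A →ₐ[O] L := AlgHom.codRestrict ψ (L.toSubalgebra.restrictScalars O) (range_subset L hL ψ)
  exact ⟨AlgHom.codRestrict φ₀ (integralClosure O L) fun z => (Algebra.IsIntegral.isIntegral z).map φ₀, fun z => rfl⟩

include hL hΩ hθ in
/-- With `a` a unit there is no ramification. -/
theorem nu_eq_zero_of_isUnit (hau : IsUnit a) (g : L ≃ₐ[K] L) (hg : g ≠ 1) : nu (gam O g θ - θ) = 0 := by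
  classical
  by_contra hne
  haveI : Algebra.FormallyUnramified O A := by
    refine ⟨?_⟩
    obtain ⟨e⟩ := hΩ
    haveI : Subsingleton (A ⧸ Ideal.span {algebraMap O A a}) := Ideal.Quotient.subsingleton_iff.2
      (Ideal.span_singleton_eq_top.2 (hau.map _))
    exact e.toEquiv.subsingleton
  have hθg : gam O g θ - θ ∈ maximalIdeal (integralClosure O L) := by
    rw [← pow_one (maximalIdeal _), mem_pow_iff]; exact Or.inr (Nat.one_le_iff_ne_zero.2 hne)
  have hmod := AlgHom.ext_of_adjoin_eq_top hθ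
    (φ₁ := (Ideal.Quotient.mkₐ O (maximalIdeal (integralClosure O L))).comp (gam O g).toAlgHom)
    (φ₂ := Ideal.Quotient.mkₐ O (maximalIdeal (integralClosure O L))) (by rintro _ rfl; exact Ideal.Quotient.eq.2 hθg)
  have hfix : ∀ φ : A →ₐ[O] integralClosure O L, (gam O g).toAlgHom.comp φ = φ := fun φ =>
    Algebra.FormallyUnramified.ext_of_iInf (I := maximalIdeal (integralClosure O L))
      (Ideal.iInf_pow_eq_bot_of_isLocalRing _ (maximalIdeal.isMaximal _).ne_top)
      fun z => AlgHom.congr_fun hmod (φ z)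
  apply hg
  apply AlgEquiv.ext
  suffices ∀ y (hy : y ∈ IntermediateField.adjoin K (⋃ φ : A →ₐ[O] Ω, Set.range φ)),
      ((g ⟨y, hL.symm ▸ hy⟩ : L) : Ω) = y from fun y => Subtype.ext (this y.1 (hL.le y.2))
  have hcomp : (L.val.comp g.toAlgHom) = L.val := by
    have hfr : ∀ y : L, (y : Ω) ∈ (⋃ φ : A →ₐ[O] Ω, Set.range φ) → ((g y : L) : Ω) = y := by
      intro y hy
      obtain ⟨ψ, z, hz⟩ := Set.mem_iUnion.1 hy
      obtain ⟨φ, hφ⟩ := exists_lift L hL ψ
      have hy' : y = (φ z : L) := Subtype.ext (by rw [hφ, hz])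
      rw [hy', ← coe_gam, show gam O g (φ z) = φ z from AlgHom.congr_fun (hfix φ) z]
    subst hL
    exact IntermediateField.adjoin_algHom_ext K fun y hy => hfr _ hy
  exact fun y hy => AlgHom.congr_fun hcomp ⟨y, hL.symm ▸ hy⟩

include hp ha hlift hL hθ in
/-- The main inequality. -/
theorem bound [DecidableEq (L ≃ₐ[K] L)] {ϖ : O} (hϖ : Irreducible ϖ) (va eK : ℕ) (hva : nu a = va)
    (heK : nu (p : O) = eK)
    (hunr : va = 0 → ∀ k : L ≃ₐ[K] L, k ≠ 1 → nu (gam O k θ - θ) = 0) (g : L ≃ₐ[K] L) (hg : g ≠ 1) :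
    (p - 1) * (nu (gam O g θ - θ) + ∑ k ∈ Finset.univ.erase (1 : L ≃ₐ[K] L), nu (gam O k θ - θ)) ≤
      nu (algebraMap O (integralClosure O L) ϖ) * ((p - 1) * va + eK) := by
  classical
  let I : (L ≃ₐ[K] L) → ℕ := fun k => nu (gam O k θ - θ)
  have hp2 := (Fact.out : p.Prime).two_le
  obtain ⟨gm, hgm, hmax⟩ := Finset.exists_max_image (Finset.univ.erase (1 : L ≃ₐ[K] L)) I
    ⟨g, Finset.mem_erase.2 ⟨hg, Finset.mem_univ g⟩⟩
  refine le_trans (Nat.mul_le_mul_left _ (Nat.add_le_add_right (hmax g (Finset.mem_erase.2 ⟨hg, Finset.mem_univ g⟩)) _)) ?_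
  rcases Nat.eq_zero_or_pos (I gm) with hi0 | hi
  · rw [Finset.sum_eq_zero (fun k hk => Nat.eq_zero_of_le_zero (hi0 ▸ hmax k hk)), hi0]
    simp
  by_contra hlt
  replace hlt := Nat.lt_of_not_le hlt
  have hva1 : 1 ≤ va := by
    by_contra h0
    exact (ne_of_gt hi) (hunr (by omega) gm (Finset.ne_of_mem_erase hgm))
  haveI : FaithfulSMul O L := (faithfulSMul_iff_algebraMap_injective O L).2 (by
    rw [IsScalarTower.algebraMap_eq O K L]
    exact (algebraMap K L).injective.comp (IsFractionRing.injective O K))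
  have hinjL : Function.Injective (algebraMap O (integralClosure O L)) := fun x y h =>
    FaithfulSMul.algebraMap_injective O L (congrArg Subtype.val h)
  haveI : IsLocalHom (algebraMap O (integralClosure O L)) :=
    RingHom.IsIntegral.isLocalHom Algebra.IsIntegral.isIntegral hinjL
  obtain ⟨e, he⟩ : ∃ e, nu (algebraMap O (integralClosure O L) ϖ) = e := ⟨_, rfl⟩
  rw [he] at hlt
  have hϖL : algebraMap O (integralClosure O L) ϖ ≠ 0 := fun h => hϖ.ne_zero (hinjL (by rw [h, map_zero]))
  have he1 : 1 ≤ e := he ▸ Nat.one_le_iff_ne_zero.2 fun h =>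
    hϖ.not_isUnit (isUnit_of_map_unit (algebraMap O (integralClosure O L)) ϖ ((nu_eq_zero_iff hϖL).1 h))
  have hU2 : 2 ≤ I gm + ∑ k ∈ Finset.univ.erase (1 : L ≃ₐ[K] L), I k := by
    have : I gm ≤ ∑ k ∈ Finset.univ.erase (1 : L ≃ₐ[K] L), I k :=
      Finset.single_le_sum (fun _ _ => Nat.zero_le _) hgm
    omega
  have hUe : e + 1 ≤ I gm + ∑ k ∈ Finset.univ.erase (1 : L ≃ₐ[K] L), I k := by
    by_contra h
    have h2 : (p - 1) * e ≤ e * ((p - 1) * va + eK) :=
      calc (p - 1) * e = e * ((p - 1) * 1) := by ring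
        _ ≤ e * ((p - 1) * va + eK) :=
          Nat.mul_le_mul_left _ ((Nat.mul_le_mul_left _ hva1).trans (Nat.le_add_right _ _))
    exact absurd ((Nat.mul_le_mul_left (p - 1) (show I gm + ∑ k ∈ Finset.univ.erase (1 : L ≃ₐ[K] L), I k ≤ e by omega)).trans h2)
      (not_le.2 hlt)
  obtain ⟨hdeg, hprod⟩ := minpoly_map_eq (K := K) hθ
  obtain ⟨n, hn⟩ : ∃ n, Fintype.card (L ≃ₐ[K] L) = n := ⟨_, rfl⟩
  rw [hn] at hdeg
  have hqn : ((Finset.univ.erase (1 : L ≃ₐ[K] L)).filter fun k => I k = I gm).card + 1 ≤ n := by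
    have := Finset.card_filter_le (Finset.univ.erase (1 : L ≃ₐ[K] L)) fun k => I k = I gm
    rw [Finset.card_erase_of_mem (Finset.mem_univ _), Finset.card_univ, hn] at this
    have : 0 < n := hn ▸ Fintype.card_pos
    omega
  have hq2 : 2 ≤ ((Finset.univ.erase (1 : L ≃ₐ[K] L)).filter fun k => I k = I gm).card + 1 := by
    have : 0 < ((Finset.univ.erase (1 : L ≃ₐ[K] L)).filter fun k => I k = I gm).card :=
      Finset.card_pos.2 ⟨gm, Finset.mem_filter.2 ⟨hgm, rfl⟩⟩
    omega
  obtain ⟨N, R₁, s, hN, hnN, heN, hs, hTlt, hTgt, hndvd, hTK⟩ :=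
    exists_shift p e _ _ _ n hp2 he1 hlt hU2 hq2 hqn
  have hNpos := hN.pos
  -- uniformizer of `L` as a polynomial in `θ`
  obtain ⟨π, hπ⟩ := IsDiscreteValuationRing.exists_irreducible (integralClosure O L)
  have hFmon : (minpoly O θ).Monic := minpoly.monic (Algebra.IsIntegral.isIntegral θ)
  obtain ⟨H₀, hH₀⟩ : ∃ P : O[X], aeval θ P = π := by
    have : π ∈ Algebra.adjoin O {θ} := hθ ▸ Algebra.mem_top
    rwa [Algebra.adjoin_singleton_eq_range_aeval] at this
  obtain ⟨H, hH, hHdeg⟩ : ∃ H : O[X], aeval θ H = π ∧ H.degree < (minpoly O θ).degree :=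
    ⟨H₀ %ₘ minpoly O θ, by rw [aeval_modByMonic_eq_self_of_root (minpoly.aeval O θ), hH₀], degree_modByMonic_lt _ hFmon⟩
  -- the perturbed root
  obtain ⟨ω, hω⟩ := IsAlgClosed.exists_pow_nat_eq (algebraMap K Ω (algebraMap O K ϖ)) hNpos
  have hωK : IsIntegral K ω := Algebra.IsIntegral.isIntegral ω
  let ωE : K⟮ω⟯ := ⟨ω, mem_adjoin_simple_self K ω⟩
  let G₀ : K⟮ω⟯[X] := (minpoly O θ).map (algebraMap O K⟮ω⟯) - C (ωE ^ R₁) * (H.map (algebraMap O K⟮ω⟯)) ^ s
  have hGdeg : (C (ωE ^ R₁) * (H.map (algebraMap O K⟮ω⟯)) ^ s).degree < ((minpoly O θ).map (algebraMap O K⟮ω⟯)).degree := by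
    rw [hFmon.degree_map, degree_eq_natDegree hFmon.ne_zero, hdeg]
    refine lt_of_le_of_lt (degree_mul_le _ _) (lt_of_le_of_lt (add_le_add degree_C_le le_rfl) ?_)
    rw [zero_add]
    rcases Nat.le_one_iff_eq_zero_or_eq_one.1 hs with rfl | rfl
    · rw [pow_zero, degree_one]
      exact_mod_cast (by omega : 0 < n)
    · rw [pow_one]
      refine lt_of_le_of_lt degree_map_le ?_
      rwa [degree_eq_natDegree hFmon.ne_zero, hdeg] at hHdeg
  have hG₀ : G₀.Monic := (hFmon.map _).sub_of_left hGdeg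
  have hG₀deg : G₀.natDegree = n := by
    rw [natDegree_eq_of_degree_eq (degree_sub_eq_left_of_degree_lt hGdeg), hFmon.natDegree_map, hdeg]
  obtain ⟨x, hx⟩ := IsAlgClosed.exists_aeval_eq_zero Ω G₀ (by
    rw [degree_eq_natDegree hG₀.ne_zero, hG₀deg]
    exact_mod_cast (by omega : n ≠ 0))
  haveI : IsScalarTower O K⟮ω⟯ Ω := IsScalarTower.of_algebraMap_eq fun o => rfl
  have heqx : aeval x (minpoly O θ) = ω ^ R₁ * aeval x H ^ s := by
    have h := hx
    simp only [G₀, map_sub, map_mul, map_pow, aeval_C, aeval_map_algebraMap, sub_eq_zero] at h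
    exact h
  obtain ⟨E, hωmem, hxmem, hEfin, hEdeg⟩ := finrank_adjoin_pair_le n hωK G₀ hG₀ hG₀deg hx
  haveI := hEfin
  rw [finrank_root hN hϖ hω] at hEdeg
  -- integrality
  have hωi : IsIntegral O ω := IsIntegral.of_pow hNpos (by
    rw [hω, ← IsScalarTower.algebraMap_apply]; exact isIntegral_algebraMap)
  have hxi : IsIntegral O x := by
    refine isIntegral_trans (R := O) (A := integralClosure O Ω) x ?_
    let ωi : integralClosure O Ω := ⟨ω, hωi⟩
    refine ⟨(minpoly O θ).map (algebraMap O _) - C (ωi ^ R₁) * (H.map (algebraMap O _)) ^ s,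
      (hFmon.map _).sub_of_left ?_, ?_⟩
    · rw [hFmon.degree_map, degree_eq_natDegree hFmon.ne_zero, hdeg]
      refine lt_of_le_of_lt (degree_mul_le _ _) (lt_of_le_of_lt (add_le_add degree_C_le le_rfl) ?_)
      rw [zero_add]
      rcases Nat.le_one_iff_eq_zero_or_eq_one.1 hs with rfl | rfl
      · rw [pow_zero, degree_one]
        exact_mod_cast (by omega : 0 < n)
      · rw [pow_one]
        refine lt_of_le_of_lt degree_map_le ?_
        rwa [degree_eq_natDegree hFmon.ne_zero, hdeg] at hHdeg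
    · rw [← aeval_def]
      simp only [map_sub, map_mul, map_pow, aeval_C, aeval_map_algebraMap]
      exact sub_eq_zero.2 heqx
  -- the big field
  let M : IntermediateField K Ω := L ⊔ E
  haveI : FiniteDimensional K M := inferInstanceAs (FiniteDimensional K ↥(L ⊔ E))
  haveI : IsDiscreteValuationRing (integralClosure O M) := closure_dvr O K M
  haveI : Module.Finite O (integralClosure O M) := closure_finite O K M
  haveI : Module.Finite O (integralClosure O E) := closure_finite O K E
  haveI : Module.Flat O (integralClosure O E) := closure_flat O K E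
  haveI : Module.Flat O (integralClosure O M) := closure_flat O K M
  have hinjM : Function.Injective (algebraMap O (integralClosure O M)) := fun a b h => by
    have := congrArg (fun z : integralClosure O M => ((z : M) : Ω)) h
    change algebraMap O Ω a = algebraMap O Ω b at this
    rw [IsScalarTower.algebraMap_apply O K Ω a, IsScalarTower.algebraMap_apply O K Ω b] at this
    exact IsFractionRing.injective O K ((algebraMap K Ω).injective this)
  haveI : CharZero (integralClosure O M) := ⟨fun a b h => Nat.cast_injective (R := O) (hinjM (by simpa using h))⟩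
  haveI : IsLocalHom (algebraMap O (integralClosure O M)) :=
    RingHom.IsIntegral.isLocalHom Algebra.IsIntegral.isIntegral hinjM
  let iL := icMap (O := O) (le_sup_left : L ≤ L ⊔ E)
  let iC := icMap (O := O) (le_sup_right : E ≤ L ⊔ E)
  have hiL : Function.Injective iL := icMap_injective _
  letI algLM : Algebra (integralClosure O L) (integralClosure O M) := iL.toRingHom.toAlgebra
  haveI : IsScalarTower O (integralClosure O L) (integralClosure O M) :=
    IsScalarTower.of_algebraMap_eq fun o => (iL.commutes o).symm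
  haveI : Algebra.IsIntegral (integralClosure O L) (integralClosure O M) := Algebra.IsIntegral.tower_top O
  haveI : Module.Finite (integralClosure O L) (integralClosure O M) := Module.Finite.of_restrictScalars_finite O _ _
  haveI hlocL : IsLocalHom iL.toRingHom :=
    RingHom.IsIntegral.isLocalHom (Algebra.IsIntegral.isIntegral (R := integralClosure O L)) hiL
  let xC : integralClosure O E := ⟨⟨x, hxmem⟩, (isIntegral_algHom_iff (E.val.restrictScalars O) E.val.injective).1 hxi⟩
  let ωC : integralClosure O E := ⟨⟨ω, hωmem⟩, (isIntegral_algHom_iff (E.val.restrictScalars O) E.val.injective).1 hωi⟩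
  have htoΩ : Function.Injective fun z : integralClosure O M => ((z : M) : Ω) :=
    fun y z h => Subtype.ext (Subtype.ext h)
  have heqR : aeval (iC xC) (minpoly O θ) = iC ωC ^ R₁ * aeval (iC xC) H ^ s := by
    apply htoΩ
    let ψ : integralClosure O M →ₐ[O] Ω := (M.val.restrictScalars O).comp (integralClosure O M).val
    show ψ (aeval (iC xC) (minpoly O θ)) = ψ (iC ωC ^ R₁ * aeval (iC xC) H ^ s)
    rw [← aeval_algHom_apply, map_mul, map_pow, map_pow, ← aeval_algHom_apply]
    exact heqx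
  obtain ⟨h, hh⟩ : ∃ h, nu (iL π) = h := ⟨_, rfl⟩
  obtain ⟨w, hw⟩ : ∃ w, nu (iC ωC) = w := ⟨_, rfl⟩
  have hh1 : 1 ≤ h := hh ▸ Nat.one_le_iff_ne_zero.2 fun h0 => hπ.not_isUnit
    (isUnit_of_map_unit iL.toRingHom π ((nu_eq_zero_iff fun e0 => hπ.ne_zero (hiL (e0.trans (map_zero iL).symm))).1 h0))
  have hiL0 : ∀ {b : integralClosure O L}, b ≠ 0 → iL b ≠ 0 := fun hb e0 => hb (hiL (e0.trans (map_zero iL).symm))
  have hnuL : ∀ {b : integralClosure O L}, b ≠ 0 → nu (iL b) = nu b * h := fun hb => by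
    rw [← hh]; exact nu_map iL.toRingHom hiL hπ hb
  have hnuϖ : nu (algebraMap O (integralClosure O M) ϖ) = e * h := by
    rw [show algebraMap O (integralClosure O M) ϖ = iL (algebraMap O _ ϖ) from (iL.commutes ϖ).symm, hnuL hϖL, he]
  have hnuO : ∀ {o : O}, o ≠ 0 → nu (algebraMap O (integralClosure O M) o) = nu o * (e * h) := fun ho => by
    rw [← hnuϖ]; exact nu_map _ hinjM hϖ ho
  have hωN : iC ωC ^ N = algebraMap O (integralClosure O M) ϖ := htoΩ (by
    show ω ^ N = algebraMap O Ω ϖ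
    rw [hω, ← IsScalarTower.algebraMap_apply])
  have hω0 : iC ωC ≠ 0 := fun e0 => hϖ.ne_zero (hinjM (by rw [← hωN, e0, zero_pow hNpos.ne', map_zero]))
  have hwN : N * w = e * h := by rw [← hnuϖ, ← hωN, nu_pow hω0, hw]
  -- roots
  let ρ : (L ≃ₐ[K] L) → integralClosure O M := fun k => iL (gam O k θ)
  have hFx : aeval (iC xC) (minpoly O θ) = ∏ k, (iC xC - ρ k) := by
    have h1 := congrArg (Polynomial.map iL.toRingHom) hprod
    rw [Polynomial.map_map, show iL.toRingHom.comp (algebraMap O (integralClosure O L)) = algebraMap O _ from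
      iL.comp_algebraMap] at h1
    rw [← eval_map_algebraMap, h1, Polynomial.map_prod, eval_prod]
    refine Finset.prod_congr rfl fun k _ => ?_
    simp [ρ]
  have hHρ : ∀ k, aeval (ρ k) H = iL (gam O k π) := fun k => by
    rw [← hH, ← aeval_algHom_apply (gam O k), ← aeval_algHom_apply iL]
  have hHρ0 : ∀ k, aeval (ρ k) H ≠ 0 := fun k => by
    rw [hHρ]; exact hiL0 ((map_ne_zero_iff _ (gam O k).injective).2 hπ.ne_zero)
  have hHρn : ∀ k, nu (aeval (ρ k) H) = h := fun k => by
    rw [hHρ, hnuL ((map_ne_zero_iff _ (gam O k).injective).2 hπ.ne_zero), nu_gam _ hπ.ne_zero, nu,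
      IsDiscreteValuationRing.addVal_uniformizer hπ]
    simp
  have hF0 : aeval (iC xC) (minpoly O θ) ≠ 0 := by
    intro e0
    obtain ⟨k, -, hk⟩ := Finset.prod_eq_zero_iff.1 (hFx.symm.trans e0)
    rw [sub_eq_zero] at hk
    rw [heqR, mul_eq_zero, hk] at e0
    rcases e0 with e1 | e1
    · exact pow_ne_zero _ hω0 e1
    · exact pow_ne_zero _ (hHρ0 k) e1
  have hd0 : ∀ k, iC xC - ρ k ≠ 0 := fun k => (Finset.prod_ne_zero_iff.1 (hFx ▸ hF0)) k (Finset.mem_univ k)
  obtain ⟨g₀, -, hg₀⟩ := Finset.exists_max_image Finset.univ (fun k => nu (iC xC - ρ k)) Finset.univ_nonempty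
  obtain ⟨t, ht⟩ : ∃ t, nu (iC xC - ρ g₀) = t := ⟨_, rfl⟩
  have hmin : ∀ k, k ≠ 1 → nu (iC xC - ρ (g₀ * k)) = min t (h * I k) := by
    intro k hk
    have hne : ρ g₀ - ρ (g₀ * k) = iL (gam O g₀ (θ - gam O k θ)) := by
      simp only [ρ, gam_mul_apply, map_sub]
    have h0 : θ - gam O k θ ≠ 0 := sub_gam_ne_zero hθ hk
    have h0' : gam O g₀ (θ - gam O k θ) ≠ 0 := (map_ne_zero_iff _ (gam O g₀).injective).2 h0
    rw [nu_sub_eq_min (hd0 g₀) (hne ▸ hiL0 h0') (hd0 _) (hg₀ _ (Finset.mem_univ _)), ht, hne, hnuL h0',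
      nu_gam _ h0, ← nu_neg, neg_sub, mul_comm h]
  obtain ⟨W, hW⟩ : ∃ W, nu (aeval (iC xC) (minpoly O θ)) = W := ⟨_, rfl⟩
  have hWsum : W = t + ∑ k ∈ Finset.univ.erase (1 : L ≃ₐ[K] L), min t (h * I k) := by
    rw [← hW, hFx, nu_prod _ _ fun k _ => hd0 k, ← Fintype.sum_equiv (Equiv.mulLeft g₀)
      (fun k => nu (iC xC - ρ (g₀ * k))) (fun k => nu (iC xC - ρ k)) (fun k => rfl),
      ← Finset.add_sum_erase _ _ (Finset.mem_univ (1 : L ≃ₐ[K] L)), mul_one, ht]
    exact congrArg _ (Finset.sum_congr rfl fun k hk => hmin k (Finset.ne_of_mem_erase hk))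
  have hTNe : N * e < R₁ * e + s * N := lt_of_le_of_lt (Nat.mul_le_mul_left N (Nat.le_sub_one_of_lt hUe)) hTgt
  -- the valuation of `H x`
  have hdiffH : iC xC - ρ g₀ ∣ aeval (iC xC) H - aeval (ρ g₀) H := by
    rw [← eval_map_algebraMap, ← eval_map_algebraMap]; exact sub_dvd_eval_sub _ _ _
  obtain ⟨c, hc⟩ := hdiffH
  have hHsum : aeval (iC xC) H = aeval (ρ g₀) H + (iC xC - ρ g₀) * c := by rw [← hc]; ring
  have hth : h < t := by
    by_contra hle
    replace hle := Nat.le_of_not_lt hle
    have hsum := sum_min_le (1 : L ≃ₐ[K] L) I t h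
    have hcard := card_inertia_le (K := K) hθ hϖ
    rw [he] at hcard
    have hWle : W ≤ e * t := by
      rw [hWsum]
      calc t + ∑ k ∈ Finset.univ.erase (1 : L ≃ₐ[K] L), min t (h * I k)
          ≤ t + ((Finset.univ.erase (1 : L ≃ₐ[K] L)).filter fun k => 1 ≤ I k).card * t := Nat.add_le_add_left hsum t
        _ = (((Finset.univ.erase (1 : L ≃ₐ[K] L)).filter fun k => 1 ≤ I k).card + 1) * t := by ring
        _ ≤ e * t := Nat.mul_le_mul_right _ hcard
    have hHt : aeval (iC xC) H ∈ maximalIdeal (integralClosure O M) ^ t := by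
      rw [hHsum]
      exact add_mem (mem_pow_iff.2 (Or.inr (by rw [hHρn]; exact hle)))
        (Ideal.mul_mem_right _ _ (mem_pow_iff.2 (Or.inr ht.ge)))
    have hWge : R₁ * w + s * t ≤ W := by
      rcases Nat.le_one_iff_eq_zero_or_eq_one.1 hs with rfl | rfl
      · rw [← hW, heqR, pow_zero, mul_one, nu_pow hω0, hw]; omega
      · have hH0' : aeval (iC xC) H ≠ 0 := fun e0 => hF0 (by rw [heqR, e0, pow_one, mul_zero])
        rw [← hW, heqR, pow_one, nu_mul (pow_ne_zero _ hω0) hH0', nu_pow hω0, hw, one_mul]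
        exact Nat.add_le_add_left ((mem_pow_iff.1 hHt).resolve_left hH0') _
    have h1 : N * (R₁ * w + s * t) ≤ N * (e * t) := Nat.mul_le_mul_left N (hWge.trans hWle)
    have h2 : (N * e) * h < (R₁ * e + s * N) * h := Nat.mul_lt_mul_of_pos_right hTNe hh1
    obtain ⟨d', hd'⟩ := Nat.exists_eq_add_of_le (hs.trans he1)
    have h3 : R₁ * (e * h) + s * (N * t) ≤ N * (e * t) := by
      rw [← hwN]; refine le_trans (le_of_eq ?_) h1; ring
    have h4 : N * (d' * t) ≤ N * (d' * h) := Nat.mul_le_mul_left N (Nat.mul_le_mul_left d' hle)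
    subst hd'
    simp only [mul_add, add_mul] at h2 h3
    simp only [mul_assoc, mul_comm, mul_left_comm] at h2 h3 h4
    omega
  have hHx : aeval (iC xC) H ≠ 0 ∧ nu (aeval (iC xC) H) = h := by
    rw [hHsum]
    refine (nu_add_of_lt (hHρ0 g₀) ?_).imp id fun he' => he'.trans (hHρn g₀)
    rcases eq_or_ne c 0 with rfl | hc0
    · exact Or.inl (mul_zero _)
    · exact Or.inr (by rw [hHρn, nu_mul (hd0 g₀) hc0, ht]; omega)
  have hWval : W = R₁ * w + s * h := by
    rw [← hW, heqR, nu_mul (pow_ne_zero _ hω0) (pow_ne_zero _ hHx.1), nu_pow hω0, nu_pow hHx.1, hw, hHx.2]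
  have hNW : N * W = h * (R₁ * e + s * N) := by
    rw [hWval, mul_add, ← mul_assoc, mul_comm N R₁, mul_assoc, hwN]; ring
  -- the ideal of divided powers
  have hna : nu (algebraMap O (integralClosure O M) a) = va * (e * h) := by rw [hnuO ha, hva]
  have hnp : nu ((p : ℕ) : integralClosure O M) = eK * (e * h) := by
    rw [← map_natCast (algebraMap O (integralClosure O M)) p, hnuO (Nat.cast_ne_zero.2 (Fact.out : p.Prime).ne_zero), heK]
  have hkey : (p - 1) * (va * (e * h)) + eK * (e * h) < (p - 1) * W := by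
    refine Nat.lt_of_mul_lt_mul_left (a := N) ?_
    rw [mul_left_comm N (p - 1) W, hNW]
    calc N * ((p - 1) * (va * (e * h)) + eK * (e * h)) = h * (N * (e * ((p - 1) * va + eK))) := by ring
      _ < h * ((p - 1) * (R₁ * e + s * N)) := Nat.mul_lt_mul_of_pos_left hTK hh1
      _ = (p - 1) * (h * (R₁ * e + s * N)) := by ring
  have haW : va * (e * h) ≤ W := Nat.le_of_mul_le_mul_left
    ((Nat.le_add_right _ _).trans hkey.le) (by omega)
  haveI : Finite (A →ₐ[O] integralClosure O L) := finite_algHom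
  have hdiv : Function.Injective (algebraMap O K) := IsFractionRing.injective O K
  have hcoe : ∀ (P : O[X]), iC (aeval xC P) = aeval (iC xC) P := fun P => (aeval_algHom_apply iC xC P).symm
  haveI : IsDiscreteValuationRing (integralClosure O E) := closure_dvr O K E
  have hpM : ((p : ℕ) : integralClosure O M) ∈ maximalIdeal (integralClosure O M) := by
    rw [← map_natCast (algebraMap O (integralClosure O M)) p]
    exact map_nonunit (algebraMap O (integralClosure O M)) _ hp
  have haM : algebraMap O (integralClosure O M) a ≠ 0 := fun e0 => ha (hinjM (e0.trans (map_zero _).symm))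
  have hpts := points_descend (R := integralClosure O M) p a ha haM
    (hlift _ hpM haM) iL hiL
    (icMap_div _ hdiv) iC (icMap_injective _) (icMap_div _ hdiv)
    (fun ψ => by
      obtain ⟨φ, hφ⟩ := exists_lift L hL (((M.val.restrictScalars O).comp (integralClosure O M).val).comp ψ)
      exact ⟨φ, AlgHom.ext fun z => htoΩ (hφ z)⟩)
    θ hθ xC H (by rw [hH]; exact hπ.maximalIdeal_eq) (by rw [hcoe]; exact hHx.1)
    (by rw [hcoe, hHx.2, hH, hh])
    (W - va * (e * h))
    (by rw [hnp, Nat.mul_sub]; omega)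
    (by rw [hcoe, mem_pow_iff, hW, hna]; exact Or.inr (by omega))
  have hLE : L ≤ E := by
    refine hL.le.trans (IntermediateField.adjoin_le_iff.2 ?_)
    intro y hy
    obtain ⟨ψ, z, rfl⟩ := Set.mem_iUnion.1 hy
    obtain ⟨φ, hφ⟩ := exists_lift L hL ψ
    obtain ⟨φ', hφ'⟩ := hpts φ
    rw [← hφ z, show (((φ z : integralClosure O L) : L) : Ω) = (((φ' z : integralClosure O E) : E) : Ω) from
      (congrArg (fun q : A →ₐ[O] integralClosure O M => ((q z : M) : Ω)) hφ').symm]
    exact ((φ' z : integralClosure O E) : E).2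
  -- degrees
  have hME : M = E := sup_eq_right.2 hLE
  have hnL : Module.finrank K L = n := by rw [← IsGalois.card_aut_eq_finrank, Nat.card_eq_fintype_card, hn]
  have hMn : Module.finrank K M = N * n := by
    refine le_antisymm (by rw [hME]; exact hEdeg) (Nat.le_of_dvd Module.finrank_pos ?_)
    refine Nat.Coprime.mul_dvd_of_dvd_of_dvd ((Nat.Prime.coprime_iff_not_dvd hN).2 fun hd =>
      absurd (Nat.le_of_dvd (by omega) hd) (by omega)) ?_ ?_
    · rw [← finrank_root hN hϖ hω]
      exact IntermediateField.finrank_dvd_of_le_right (IntermediateField.adjoin_simple_le_iff.2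
        ((le_sup_right : E ≤ M) hωmem))
    · rw [← hnL]; exact IntermediateField.finrank_dvd_of_le_right (le_sup_left : L ≤ M)
  have hhN : h = N := by
    refine le_antisymm ?_ (Nat.le_of_dvd hh1 ?_)
    · haveI : Module.IsTorsionFree (integralClosure O L) (integralClosure O M) :=
        Module.isTorsionFree_iff_algebraMap_injective.2 hiL
      haveI : Module.Free O (integralClosure O L) := Module.free_of_flat_of_isLocalRing
      haveI : Module.Free (integralClosure O L) (integralClosure O M) := inferInstance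
      have h1 := Module.finrank_mul_finrank O (integralClosure O L) (integralClosure O M)
      rw [closure_finrank O K L, closure_finrank O K M, hnL, hMn, mul_comm N n] at h1
      have h2 := nu_le_finrank (O := integralClosure O L) (B := integralClosure O M) hiL hπ
      rw [Nat.eq_of_mul_eq_mul_left (by omega) h1] at h2
      haveI := liesOver_maximalIdeal (O := integralClosure O L) (B := integralClosure O M)
      have h3 : 0 < (maximalIdeal (integralClosure O M)).inertiaDeg (integralClosure O L) := Ideal.inertiaDeg_pos _ _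
      rw [show nu (algebraMap (integralClosure O L) (integralClosure O M) π) = h from hh] at h2
      exact h2 ▸ Nat.le_mul_of_pos_right _ h3
    · exact ((Nat.Prime.coprime_iff_not_dvd hN).2 fun hd => absurd (Nat.le_of_dvd he1 hd) (by omega)).dvd_of_dvd_mul_left
        (hwN ▸ dvd_mul_right N w)
  subst hhN
  have hWT : W = R₁ * e + s * h := Nat.eq_of_mul_eq_mul_left hh1 hNW
  exact herbrand_false (1 : L ≃ₐ[K] L) I h t (R₁ * e + s * h) (I gm)
    (fun k hk => hmax k (Finset.mem_erase.2 ⟨hk, Finset.mem_univ k⟩)) hi (hWT ▸ hWsum) hTlt hTgt hndvd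

end Bound

end Groth.Agent.H06Font
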