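import Groth.Agent.H06Font.Closure
import Mathlib.FieldTheory.Perfect
import Mathlib.FieldTheory.PrimitiveElement
import Mathlib.RingTheory.Nakayama

/-!
# A generator of the integral closure
-/

set_option autoImplicit false
set_option linter.style.haveILetI false
universe u v

open IsLocalRing Polynomial

namespace Groth.Agent.H06Font

variable {O : Type u} [CommRing O] [IsDomain O] [IsDiscreteValuationRing O] [PerfectField (ResidueField O)]
  {B : Type v} [CommRing B] [IsDomain B] [IsDiscreteValuationRing B] [Algebra O B] [Module.Finite O B]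

/-- A finite extension of discrete valuation rings with perfect residue field is generated by one element. -/
theorem exists_adjoin_eq_top (hinj : Function.Injective (algebraMap O B)) :
    ∃ θ : B, Algebra.adjoin O {θ} = ⊤ := by
  haveI : IsLocalHom (algebraMap O B) := RingHom.IsIntegral.isLocalHom (Algebra.IsIntegral.isIntegral) hinj
  haveI : Module.Finite (ResidueField O) (ResidueField B) := inferInstance
  obtain ⟨ξ, hξ⟩ := Field.exists_primitive_element (ResidueField O) (ResidueField B)
  obtain ⟨α, rfl⟩ := IsLocalRing.residue_surjective ξ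
  have hint : IsIntegral (ResidueField O) (residue B α) := Algebra.IsIntegral.isIntegral _
  obtain ⟨g, hg⟩ := Polynomial.map_surjective (residue O) IsLocalRing.residue_surjective
    (minpoly (ResidueField O) (residue B α))
  have hres : ∀ (P : O[X]) (b : B), residue B (aeval b P) = aeval (residue B b) (P.map (residue O)) := by
    intro P b
    show _ = aeval (residue B b) (P.map (algebraMap O (ResidueField O)))
    rw [aeval_map_algebraMap]
    exact (Polynomial.aeval_algebraMap_apply (ResidueField B) b P).symm
  have hroot : aeval α g ∈ maximalIdeal B := by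
    rw [← residue_eq_zero_iff, hres, hg, minpoly.aeval]
  obtain ⟨π, hπ⟩ := IsDiscreteValuationRing.exists_irreducible B
  obtain ⟨θ, hθα, hθ⟩ : ∃ θ, residue B θ = residue B α ∧ maximalIdeal B = Ideal.span {aeval θ g} := by
    by_cases h : aeval α g ∈ maximalIdeal B ^ 2
    · refine ⟨α + π, ?_, ?_⟩
      · rw [map_add, (residue_eq_zero_iff π).2 (by rw [hπ.maximalIdeal_eq]; exact Ideal.mem_span_singleton_self π),
          add_zero]
      · obtain ⟨c, hc⟩ := Polynomial.binomExpansion (g.map (algebraMap O B)) α π
        rw [eval_map_algebraMap, eval_map_algebraMap, derivative_map, eval_map_algebraMap] at hc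
        rw [hπ.maximalIdeal_eq, Ideal.span_singleton_pow, Ideal.mem_span_singleton] at h
        obtain ⟨w, hw⟩ := h
        have hu : IsUnit (aeval α (derivative g)) := by
          rw [← residue_ne_zero_iff_isUnit, hres, ← derivative_map, hg]
          exact Separable.aeval_derivative_ne_zero (PerfectField.separable_of_irreducible (minpoly.irreducible hint))
            (minpoly.aeval _ _)
        rw [hc, hw]
        refine (IsDiscreteValuationRing.irreducible_iff_uniformizer _).1 ?_
        have hu2 : IsUnit (aeval α (derivative g) + π * (w + c)) := by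
          rw [← residue_ne_zero_iff_isUnit, map_add, map_mul,
            (residue_eq_zero_iff π).2 (by rw [hπ.maximalIdeal_eq]; exact Ideal.mem_span_singleton_self π), zero_mul,
            add_zero]
          exact (residue_ne_zero_iff_isUnit _).2 hu
        rw [show π ^ 2 * w + aeval α (derivative g) * π + c * π ^ 2 = (aeval α (derivative g) + π * (w + c)) * π by ring]
        exact (irreducible_isUnit_mul hu2).2 hπ
    · refine ⟨α, rfl, ?_⟩
      rw [hπ.maximalIdeal_eq] at h hroot ⊢
      obtain ⟨w, hw⟩ := Ideal.mem_span_singleton.1 hroot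
      have hwu : IsUnit w := by
        by_contra hwn
        obtain ⟨w', rfl⟩ : π ∣ w := Ideal.mem_span_singleton.1 (by rw [← hπ.maximalIdeal_eq]; exact hwn)
        exact h (by rw [Ideal.span_singleton_pow, Ideal.mem_span_singleton]; exact ⟨w', by rw [hw]; ring⟩)
      rw [hw, Ideal.span_singleton_mul_right_unit hwu]
  refine ⟨θ, ?_⟩
  let T := Algebra.adjoin O ({θ} : Set B)
  have hres' : ∀ b : B, ∃ t ∈ T, b - t ∈ maximalIdeal B := by
    intro b
    have hb : residue B b ∈ Algebra.adjoin (ResidueField O) {residue B α} := by
      rw [← IntermediateField.adjoin_simple_toSubalgebra_of_isAlgebraic hint.isAlgebraic, hξ]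
      exact Algebra.mem_top
    rw [Algebra.adjoin_singleton_eq_range_aeval] at hb
    obtain ⟨P, hP⟩ := hb
    obtain ⟨P, rfl⟩ := Polynomial.map_surjective (residue O) IsLocalRing.residue_surjective P
    refine ⟨aeval θ P, aeval_mem_adjoin_singleton O θ, ?_⟩
    rw [← residue_eq_zero_iff, map_sub, hres, hθα, sub_eq_zero]
    exact hP.symm
  have hpow : ∀ k : ℕ, ∀ b : B, ∃ t ∈ T, b - t ∈ maximalIdeal B ^ k := by
    intro k
    induction k with
    | zero => exact fun b => ⟨0, zero_mem _, by simp⟩
    | succ k ih =>
      intro b
      obtain ⟨t, ht, hbt⟩ := ih b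
      rw [hθ, Ideal.span_singleton_pow, Ideal.mem_span_singleton] at hbt
      obtain ⟨c, hc⟩ := hbt
      obtain ⟨s, hs, hcs⟩ := hres' c
      refine ⟨t + aeval θ g ^ k * s, add_mem ht (mul_mem (pow_mem (aeval_mem_adjoin_singleton O θ) k) hs), ?_⟩
      rw [← sub_sub, hc, ← mul_sub, pow_succ]
      exact Ideal.mul_mem_mul (Ideal.pow_mem_pow (by rw [hθ]; exact Ideal.mem_span_singleton_self _) k) hcs
  obtain ⟨ϖ, hϖ⟩ := IsDiscreteValuationRing.exists_irreducible O
  have hle : (⊤ : Submodule O B) ≤ Subalgebra.toSubmodule T := by
    refine Submodule.le_of_le_smul_of_le_jacobson_bot (Module.Finite.fg_top) (maximalIdeal_le_jacobson _) ?_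
    intro b _
    obtain ⟨t, ht, hbt⟩ := hpow (nu (algebraMap O B ϖ)) b
    rw [← map_maximalIdeal_eq hinj hϖ] at hbt
    rw [← add_sub_cancel t b]
    refine Submodule.add_mem_sup ht ?_
    rw [Ideal.smul_top_eq_map]
    exact hbt
  exact eq_top_iff.2 fun b _ => hle Submodule.mem_top

end Groth.Agent.H06Font
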