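import Groth.Agent.H06Font.Taylor
import Groth.Agent.H02CA.PowerSeries
import Mathlib.LinearAlgebra.Matrix.NonsingularInverse
import Mathlib.RingTheory.Jacobson.Ideal

/-!
# Newton's method along a topologically nilpotent divided power ideal
-/

set_option autoImplicit false
set_option linter.unusedSectionVars false
universe u v

open MvPowerSeries W4c1noabschz1

namespace Groth.Agent.H06Font

variable {O : Type u} [CommRing O] {r : ℕ} {S : Type v} [CommRing S] [Algebra O S]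
  {I : Ideal S} (hI : DividedPowers I) (R₀ : Ideal S) [IsAdicComplete R₀ S] (hIR : I ≤ R₀)
  (hclosed : ∀ (J : Ideal S) (z : S), (∀ M : ℕ, z ∈ J ⊔ R₀ ^ M) → z ∈ J)
  (hdp : ∀ M : ℕ, ∃ n, dpPow hI n ≤ R₀ ^ M)
  (a : O) (ha : ∀ z : S, algebraMap O S a * z = 0 → z = 0)
  (g : Fin r → MvPowerSeries (Fin r) O) (U V : Matrix (Fin r) (Fin r) (MvPowerSeries (Fin r) O))
  (hJ : ∀ i j, pderiv O j (g i) - C a * U i j ∈ Ideal.span (Set.range g))
  (hUV : ∀ i j, (U * V - 1) i j ∈ Ideal.span (Set.range g))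


omit [IsAdicComplete R₀ S] in
theorem eq_zero_of_forall_mem (hh : IsHausdorff R₀ S) {z : S} (h : ∀ M : ℕ, z ∈ R₀ ^ M) : z = 0 :=
  hh.haus z fun M => by rw [SModEq.zero, smul_eq_mul, Ideal.mul_top]; exact h M

/-- The relations and `a`. -/
noncomputable def derIdeal : Ideal (MvPowerSeries (Fin r) O) := Ideal.span (Set.range g) ⊔ Ideal.span {C a}

include hJ in
theorem pderiv_mem (i j : Fin r) : pderiv O j (g i) ∈ derIdeal a g := by
  rw [← sub_add_cancel (pderiv O j (g i)) (C a * U i j)]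
  exact add_mem (Submodule.mem_sup_left (hJ i j))
    (Submodule.mem_sup_right (Ideal.mul_mem_right _ _ (Ideal.mem_span_singleton_self _)))

include hJ in
theorem derIdeal_stable (j : Fin r) {f : MvPowerSeries (Fin r) O} (hf : f ∈ derIdeal a g) :
    pderiv O j f ∈ derIdeal a g := by
  rw [derIdeal, ← Ideal.span_union] at hf
  induction hf using Submodule.span_induction with
  | mem x hx =>
    rcases hx with ⟨i, rfl⟩ | hx
    · exact pderiv_mem a g U hJ i j
    · rw [Set.mem_singleton_iff.1 hx, pderiv_C]; exact zero_mem _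
  | zero => rw [map_zero]; exact zero_mem _
  | add x y _ _ hx hy => rw [map_add]; exact add_mem hx hy
  | smul c x hxm hx =>
    rw [smul_eq_mul, Derivation.leibniz, smul_eq_mul, smul_eq_mul]
    refine add_mem (Ideal.mul_mem_left _ _ hx) ?_
    rw [derIdeal, ← Ideal.span_union]
    exact Ideal.mul_mem_right _ _ hxm

variable (χ : MvPowerSeries (Fin r) O →ₐ[O] S) (hg : ∀ i, χ (g i) ∈ Ideal.span {(algebraMap O S a)} * I)

include hg in
theorem map_span_mem {f : MvPowerSeries (Fin r) O} (hf : f ∈ Ideal.span (Set.range g)) :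
    χ f ∈ Ideal.span {(algebraMap O S a)} * I := by
  have : Ideal.span (Set.range g) ≤ (Ideal.span {(algebraMap O S a)} * I).comap χ :=
    Ideal.span_le.2 (by rintro _ ⟨i, rfl⟩; exact hg i)
  exact this hf

include hg in
theorem map_derIdeal {f : MvPowerSeries (Fin r) O} (hf : f ∈ derIdeal a g) : χ f ∈ Ideal.span {(algebraMap O S a)} := by
  have : derIdeal a g ≤ (Ideal.span {(algebraMap O S a)}).comap χ := by
    refine sup_le (fun f hf => Ideal.mem_comap.2 (Ideal.mul_le_left (map_span_mem a g χ hg hf))) ?_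
    rw [Ideal.span_singleton_le_iff_mem, Ideal.mem_comap, c_eq_algebraMap, χ.commutes]
    exact Ideal.mem_span_singleton_self _
  exact this hf

include hIR hg hJ hUV in
/-- The derivative at the base point is `a` times an invertible matrix. -/
theorem exists_W : ∃ W : Matrix (Fin r) (Fin r) S, IsUnit W.det ∧ ∀ i j, χ (pderiv O j (g i)) = (algebraMap O S a) * W i j := by
  choose z hz hz' using fun i j => Ideal.mem_span_singleton_mul.1 (map_span_mem a g χ hg (hJ i j))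
  let W : Matrix (Fin r) (Fin r) S := fun i j => χ (U i j) + z i j
  refine ⟨W, ?_, fun i j => ?_⟩
  · have h1 : (Ideal.Quotient.mk I).mapMatrix W * (Ideal.Quotient.mk I).mapMatrix (χ.toRingHom.mapMatrix V) = 1 := by
      have h2 : (Ideal.Quotient.mk I).mapMatrix W = (Ideal.Quotient.mk I).mapMatrix (χ.toRingHom.mapMatrix U) := by
        ext i j
        show Ideal.Quotient.mk I (χ (U i j) + z i j) = Ideal.Quotient.mk I (χ (U i j))
        rw [map_add, Ideal.Quotient.eq_zero_iff_mem.2 (hz i j), add_zero]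
      rw [h2, ← map_mul, ← map_mul, ← sub_eq_zero, ← map_one (Ideal.Quotient.mk I).mapMatrix,
        ← map_one χ.toRingHom.mapMatrix, ← map_sub, ← map_sub]
      ext i j
      exact Ideal.Quotient.eq_zero_iff_mem.2 (Ideal.mul_le_right (map_span_mem a g χ hg (hUV i j)))
    have h3 := congrArg Matrix.det h1
    rw [Matrix.det_mul, Matrix.det_one, ← RingHom.map_det, ← RingHom.map_det, ← map_mul, ← map_one (Ideal.Quotient.mk I),
      Ideal.Quotient.eq] at h3
    have h4 : W.det * (χ.toRingHom.mapMatrix V).det - 1 ∈ (⊥ : Ideal S).jacobson :=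
      IsAdicComplete.le_jacobson_bot R₀ (hIR h3)
    have h5 := Ideal.mem_jacobson_bot.1 h4 1
    rw [mul_one, sub_add_cancel] at h5
    exact isUnit_of_mul_isUnit_left h5
  · rw [mul_add, hz', ← χ.commutes a, ← c_eq_algebraMap, ← map_mul, ← map_add]
    congr 1
    ring

variable (hχ : ∀ j, χ (X j) ∈ R₀) (W : Matrix (Fin r) (Fin r) S)
  (hW : ∀ i j, χ (pderiv O j (g i)) = (algebraMap O S a) * W i j)

include hIR hclosed hdp hJ hg hχ hW in
theorem contraction {n : ℕ} (hn : 1 ≤ n) (χ₁ χ₂ : MvPowerSeries (Fin r) O →ₐ[O] S) (h₁ h₂ : Fin r → S)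
    (hh₁ : ∀ j, h₁ j ∈ I) (hd : ∀ j, h₂ j - h₁ j ∈ dpPow hI n) (hX₁ : ∀ j, χ₁ (X j) = χ (X j) + h₁ j)
    (hX₂ : ∀ j, χ₂ (X j) = χ (X j) + h₂ j) (i : Fin r) :
    χ₂ (g i) - χ₁ (g i) - (algebraMap O S a) * ∑ j, W i j * (h₂ j - h₁ j) ∈ Ideal.span {(algebraMap O S a)} * dpPow hI (n + 1) := by
  classical
  have hh₂ : ∀ j, h₂ j ∈ I := fun j => by simpa using add_mem (dpPow_le hI hn (hd j)) (hh₁ j)
  refine hclosed _ _ fun M => ?_
  obtain ⟨n₀, hn₀⟩ := hdp M
  obtain ⟨N₀, hN₀, hN₁, hN₂⟩ : ∃ N₀, n₀ ≤ N₀ ∧ M ≤ N₀ ∧ 2 ≤ N₀ :=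
    ⟨n₀ + M + 2, by omega, by omega, by omega⟩
  have hdpN : dpPow hI N₀ ≤ R₀ ^ M := (dpPow_antitone hI hN₀).trans hn₀
  have hpw : ∀ {y : S}, y ∈ R₀ → y ^ N₀ ∈ R₀ ^ M := fun hy =>
    Ideal.pow_le_pow_right hN₁ (Ideal.pow_mem_pow hy _)
  have t₁ := taylor hI χ χ₁ h₁ hh₁ hX₁ (R₀ ^ M) N₀ (fun j => hpw (hχ j))
    (fun j => hpw (by rw [hX₁]; exact add_mem (hχ j) (hIR (hh₁ j)))) hdpN (g i)
  have t₂ := taylor hI χ χ₂ h₂ hh₂ hX₂ (R₀ ^ M) N₀ (fun j => hpw (hχ j))
    (fun j => hpw (by rw [hX₂]; exact add_mem (hχ j) (hIR (hh₂ j)))) hdpN (g i)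
  let B₀ := Fintype.piFinset (fun _ : Fin r => Finset.range N₀)
  let F : (Fin r → ℕ) → S := fun α =>
    χ (der α (g i)) * (∏ j, hI.dpow (α j) (h₂ j) - ∏ j, hI.dpow (α j) (h₁ j))
  let T : Finset (Fin r → ℕ) := Finset.univ.image fun j => (Pi.single j 1 : Fin r → ℕ)
  have hT : T ⊆ B₀ := by
    intro α hα
    obtain ⟨j, -, rfl⟩ := Finset.mem_image.1 hα
    refine Fintype.mem_piFinset.2 fun k => Finset.mem_range.2 ?_
    rcases eq_or_ne k j with rfl | hk
    · rw [Pi.single_eq_same]; omega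
    · rw [Pi.single_eq_of_ne hk]; omega
  have hlin : ∑ α ∈ T, F α = (algebraMap O S a) * ∑ j, W i j * (h₂ j - h₁ j) := by
    rw [Finset.sum_image fun x _ y _ hxy => by
      by_contra hne
      have h := congrFun hxy x
      simp [hne] at h, Finset.mul_sum]
    refine Finset.sum_congr rfl fun j _ => ?_
    have hs : ∀ h : Fin r → S, (∀ k, h k ∈ I) →
        ∏ k, hI.dpow ((Pi.single j 1 : Fin r → ℕ) k) (h k) = h j := fun h hh => by
      rw [Finset.prod_eq_single j (fun k _ hk => by rw [Pi.single_eq_of_ne hk, hI.dpow_zero (hh k)]) (by simp),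
        Pi.single_eq_same, hI.dpow_one (hh j)]
    show χ (der _ (g i)) * _ = _
    rw [der_single, hW, hs h₂ hh₂, hs h₁ hh₁, mul_assoc]
  have hrest : ∑ α ∈ B₀ \ T, F α ∈ Ideal.span {(algebraMap O S a)} * dpPow hI (n + 1) := by
    refine sum_mem fun α hα => ?_
    obtain ⟨-, hαT⟩ := Finset.mem_sdiff.1 hα
    rcases Nat.lt_or_ge (∑ j, α j) 2 with hs | hs
    · rcases Nat.eq_zero_or_pos (∑ j, α j) with h0 | h0
      · have : ∀ j, α j = 0 := fun j => (Finset.sum_eq_zero_iff.1 h0) j (Finset.mem_univ j)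
        simp only [F, this, hI.dpow_zero (hh₂ _), hI.dpow_zero (hh₁ _), sub_self, mul_zero]
        exact zero_mem _
      · exfalso
        obtain ⟨j, -, hj⟩ := Finset.exists_ne_zero_of_sum_ne_zero (show ∑ j, α j ≠ 0 by omega)
        refine hαT (Finset.mem_image.2 ⟨j, Finset.mem_univ j, funext fun k => ?_⟩)
        have h1 := Finset.add_sum_erase _ α (Finset.mem_univ j)
        rcases eq_or_ne k j with rfl | hk
        · rw [Pi.single_eq_same]; omega
        · rw [Pi.single_eq_of_ne hk]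
          have := Finset.single_le_sum (f := α) (fun i _ => Nat.zero_le _)
            (Finset.mem_erase.2 ⟨hk, Finset.mem_univ k⟩)
          omega
    · obtain ⟨k, hk⟩ := Nat.exists_eq_add_of_le (show 1 ≤ ∑ j, α j by omega)
      refine Ideal.mul_mem_mul (map_derIdeal a g χ hg
        (der_mem (fun j f hf => derIdeal_stable a g U hJ j hf) (fun j => pderiv_mem a g U hJ i j) k α (by omega))) ?_
      exact dpPow_antitone hI (by omega) (prod_dpow_sub_mem hI hn h₁ h₂ hh₁ hd α Finset.univ)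
  have hsum : (∑ α ∈ B₀, χ (der α (g i)) * ∏ j, hI.dpow (α j) (h₂ j)) -
      ∑ α ∈ B₀, χ (der α (g i)) * ∏ j, hI.dpow (α j) (h₁ j) = ∑ α ∈ B₀ \ T, F α + ∑ α ∈ T, F α := by
    rw [Finset.sum_sdiff hT, ← Finset.sum_sub_distrib]
    exact Finset.sum_congr rfl fun α _ => (mul_sub _ _ _).symm
  rw [hlin] at hsum
  rw [show χ₂ (g i) - χ₁ (g i) - (algebraMap O S a) * ∑ j, W i j * (h₂ j - h₁ j) =
    ∑ α ∈ B₀ \ T, F α + ((χ₂ (g i) - ∑ α ∈ B₀, χ (der α (g i)) * ∏ j, hI.dpow (α j) (h₂ j)) -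
      (χ₁ (g i) - ∑ α ∈ B₀, χ (der α (g i)) * ∏ j, hI.dpow (α j) (h₁ j))) by linear_combination hsum]
  exact Submodule.add_mem_sup hrest (sub_mem t₂ t₁)

theorem ev_congr {M : ℕ} (χ₁ χ₂ : MvPowerSeries (Fin r) O →ₐ[O] S) (h₁ : ∀ j, χ₁ (X j) ∈ R₀)
    (h₂ : ∀ j, χ₂ (X j) ∈ R₀) (h : ∀ j, χ₁ (X j) - χ₂ (X j) ∈ R₀ ^ M) (f : MvPowerSeries (Fin r) O) :
    χ₁ f - χ₂ f ∈ R₀ ^ M := by
  have t₁ := map_box χ₁ (R₀ ^ M) (fun _ => M) (fun j => Ideal.pow_mem_pow (h₁ j) M) f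
  have t₂ := map_box χ₂ (R₀ ^ M) (fun _ => M) (fun j => Ideal.pow_mem_pow (h₂ j) M) f
  let B := Fintype.piFinset (fun _ : Fin r => Finset.range M)
  have t₃ : (∑ β ∈ B, algebraMap O S (coeff (fsupp β) f) * ∏ j, χ₁ (X j) ^ β j) -
      ∑ β ∈ B, algebraMap O S (coeff (fsupp β) f) * ∏ j, χ₂ (X j) ^ β j ∈ R₀ ^ M := by
    rw [← Ideal.Quotient.eq]
    simp only [map_sum, map_mul, map_prod, map_pow, fun j => Ideal.Quotient.eq.2 (h j)]
  convert add_mem (sub_mem t₁ t₂) t₃ using 1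
  ring

variable (hWu : IsUnit W.det)

include hWu in
theorem mem_of_mulVec {J : Ideal S} {d : Fin r → S} (hd : ∀ i, ∑ j, W i j * d j ∈ J) (j : Fin r) : d j ∈ J := by
  have h : d = Matrix.mulVec W⁻¹ (Matrix.mulVec W d) := by
    rw [Matrix.mulVec_mulVec, Matrix.nonsing_inv_mul _ hWu, Matrix.one_mulVec]
  rw [h]
  show ∑ i, W⁻¹ j i * _ ∈ J
  exact sum_mem fun i _ => Ideal.mul_mem_left _ _ (hd i)

include hIR hclosed hdp hJ hg hχ hW hWu in
/-- A solution congruent to the given approximate one. -/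
theorem exists_solution :
    ∃ χ' : MvPowerSeries (Fin r) O →ₐ[O] S, (∀ j, χ' (X j) - χ (X j) ∈ I) ∧ (∀ j, χ' (X j) ∈ R₀) ∧
      ∀ i, χ' (g i) = 0 := by
  classical
  have hev : ∀ h : Fin r → S, (∀ j, h j ∈ R₀) →
      ∃ φ : MvPowerSeries (Fin r) O →ₐ[O] S, ∀ j, φ (X j) = χ (X j) + h j :=
    fun h hh => H02CA.PS.exists_algHom R₀ _ fun j => add_mem (hχ j) (hh j)
  let P : ℕ → (Fin r → S) × (MvPowerSeries (Fin r) O →ₐ[O] S) → Prop := fun n s =>
    (∀ j, s.1 j ∈ I) ∧ (∀ j, s.2 (X j) = χ (X j) + s.1 j) ∧ ∀ i, s.2 (g i) ∈ Ideal.span {(algebraMap O S a)} * dpPow hI (n + 1)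
  have hstep : ∀ n s, P n s → ∃ t, P (n + 1) t ∧ ∀ j, t.1 j - s.1 j ∈ dpPow hI (n + 1) := by
    rintro n ⟨h, φ⟩ ⟨hh, hX, hG⟩
    choose c hc hc' using fun i => Ideal.mem_span_singleton_mul.1 (hG i)
    let d : Fin r → S := - Matrix.mulVec W⁻¹ c
    have hd : ∀ j, d j ∈ dpPow hI (n + 1) := fun j => by
      show - ∑ i, W⁻¹ j i * c i ∈ _
      exact neg_mem (sum_mem fun i _ => Ideal.mul_mem_left _ _ (hc i))
    have hh' : ∀ j, h j + d j ∈ I := fun j => add_mem (hh j) (dpPow_le hI (Nat.le_add_left 1 n) (hd j))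
    obtain ⟨φ', hφ'⟩ := hev (fun j => h j + d j) fun j => hIR (hh' j)
    refine ⟨⟨fun j => h j + d j, φ'⟩, ⟨hh', hφ', fun i => ?_⟩, fun j => by simpa using hd j⟩
    have hc1 := contraction hI R₀ hIR hclosed hdp a g U hJ χ hg hχ W hW (Nat.le_add_left 1 n) φ φ' h
      (fun j => h j + d j) hh (fun j => by simpa using hd j) hX hφ' i
    have hWd : ∑ j, W i j * (h j + d j - h j) = - c i := by
      simp only [add_sub_cancel_left]
      show (Matrix.mulVec W (- Matrix.mulVec W⁻¹ c)) i = _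
      rw [Matrix.mulVec_neg, Matrix.mulVec_mulVec, Matrix.mul_nonsing_inv _ hWu, Matrix.one_mulVec]
      rfl
    rw [hWd, ← hc' i] at hc1
    simpa [mul_neg] using hc1
  choose next hnext hdiff using hstep
  obtain ⟨φ₀, hφ₀⟩ : ∃ φ₀ : MvPowerSeries (Fin r) O →ₐ[O] S, φ₀ = χ := ⟨χ, rfl⟩
  have h0 : P 0 (0, φ₀) := ⟨fun j => zero_mem _, fun j => by simp [hφ₀], fun i => by
    rw [hφ₀]
    exact Ideal.mul_mono le_rfl (fun x hx => mem_dpPow_one hI hx) (hg i)⟩
  let s : (n : ℕ) → {s // P n s} := fun n =>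
    Nat.rec (motive := fun n => {s // P n s}) ⟨(0, φ₀), h0⟩ (fun n t => ⟨next n t.1 t.2, hnext n t.1 t.2⟩) n
  have hcauchy : ∀ p q, p ≤ q → ∀ j, (s q).1.1 j - (s p).1.1 j ∈ dpPow hI (p + 1) := by
    intro p q hpq j
    induction q, hpq using Nat.le_induction with
    | base => simp
    | succ q hpq ih =>
      rw [show (s (q + 1)).1.1 j - (s p).1.1 j = ((s (q + 1)).1.1 j - (s q).1.1 j) + ((s q).1.1 j - (s p).1.1 j) by ring]
      exact add_mem (dpPow_antitone hI (Nat.add_le_add_right hpq 1) (hdiff q (s q).1 (s q).2 j)) ih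
  choose ν hν using hdp
  let φM : ℕ → ℕ := fun M => ∑ i ∈ Finset.range (M + 1), ν i
  have hφM : ∀ M, dpPow hI (φM M + 1) ≤ R₀ ^ M := fun M => (dpPow_antitone hI ((Finset.single_le_sum
    (fun i _ => Nat.zero_le (ν i)) (Finset.self_mem_range_succ M)).trans (Nat.le_succ _))).trans (hν M)
  have hmono : ∀ {p q}, p ≤ q → φM p ≤ φM q := fun hpq =>
    Finset.sum_le_sum_of_subset (Finset.range_subset_range.2 (Nat.succ_le_succ hpq))
  have hL : ∀ j, ∃ L, ∀ M, L - (s (φM M)).1.1 j ∈ R₀ ^ M := fun j => by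
    obtain ⟨L, hL⟩ := IsPrecomplete.prec (I := R₀) (M := S) inferInstance (f := fun M => (s (φM M)).1.1 j)
      fun {p q} hpq => by
        rw [SModEq.sub_mem, smul_eq_mul, Ideal.mul_top, ← neg_sub]
        exact neg_mem (hφM p (hcauchy _ _ (hmono hpq) j))
    exact ⟨L, fun M => by
      have := hL M
      rw [SModEq.sub_mem, smul_eq_mul, Ideal.mul_top] at this
      simpa using neg_mem this⟩
  choose L hL using hL
  have hLI : ∀ j, L j ∈ I := fun j => hclosed I _ fun M => by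
    rw [← add_sub_cancel ((s (φM M)).1.1 j) (L j)]
    exact Submodule.add_mem_sup ((s (φM M)).2.1 j) (hL j M)
  obtain ⟨χ', hχ'⟩ := hev L fun j => hIR (hLI j)
  have hχ'R : ∀ j, χ' (X j) ∈ R₀ := fun j => by rw [hχ']; exact add_mem (hχ j) (hIR (hLI j))
  refine ⟨χ', fun j => by rw [hχ', add_sub_cancel_left]; exact hLI j, hχ'R, fun i => ?_⟩
  refine eq_zero_of_forall_mem R₀ inferInstance fun M => ?_
  rw [← sub_add_cancel (χ' (g i)) ((s (φM M)).1.2 (g i))]
  refine add_mem (ev_congr R₀ _ _ hχ'R (fun j => by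
    rw [(s (φM M)).2.2.1 j]; exact add_mem (hχ j) (hIR ((s (φM M)).2.1 j))) (fun j => ?_) _) ?_
  · rw [hχ', (s (φM M)).2.2.1 j, add_sub_add_left_eq_sub]; exact hL j M
  · exact (Ideal.mul_le_right.trans (hφM M)) ((s (φM M)).2.2.2 i)

include hIR hclosed hdp hJ hg hχ hW hWu ha in
/-- Two solutions congruent modulo `I` agree. -/
theorem unique_solution (hnil : IsDPTopNilpotent hI) (χ' : MvPowerSeries (Fin r) O →ₐ[O] S)
    (hd : ∀ j, χ' (X j) - χ (X j) ∈ I) (h0 : ∀ i, χ (g i) = 0) (h0' : ∀ i, χ' (g i) = 0) (j : Fin r) :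
    χ' (X j) = χ (X j) := by
  let d : Fin r → S := fun j => χ' (X j) - χ (X j)
  have key : ∀ n, ∀ j, d j ∈ dpPow hI (n + 1) := by
    intro n
    induction n with
    | zero => exact fun j => mem_dpPow_one hI (hd j)
    | succ n ih =>
      refine mem_of_mulVec W hWu fun i => ?_
      have hc := contraction hI R₀ hIR hclosed hdp a g U hJ χ hg hχ W hW (Nat.le_add_left 1 n) χ χ' 0 d
        (fun j => zero_mem _) (fun j => by simpa using ih j) (fun j => by simp) (fun j => by simp [d]) i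
      rw [h0, h0', sub_zero, zero_sub] at hc
      obtain ⟨w, hw, hw'⟩ := Ideal.mem_span_singleton_mul.1 hc
      have h1 : ∑ j, W i j * d j + w = 0 := ha _ (by
        rw [mul_add, hw']
        simp)
      rw [eq_neg_of_add_eq_zero_left h1]
      exact neg_mem hw
  rw [← sub_eq_zero]
  have : d j ∈ ⨅ n, dpPow hI n := Ideal.mem_iInf.2 fun n => dpPow_antitone hI (Nat.le_succ n) (key n j)
  rwa [hnil, Ideal.mem_bot] at this

end Groth.Agent.H06Font
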