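import Mathlib.RingTheory.DiscreteValuationRing.Basic
import Mathlib.RingTheory.Ideal.Operations
import Mathlib.NumberTheory.Padics.PadicVal.Basic

/-!
# The natural-number valued valuation of a discrete valuation ring
-/

set_option autoImplicit false
universe u

open IsLocalRing IsDiscreteValuationRing

namespace Groth.Agent.H06Font

variable {R : Type u} [CommRing R] [IsDomain R] [IsDiscreteValuationRing R]

/-- The valuation (junk value `0` at `0`). -/
noncomputable def nu (x : R) : ℕ := (addVal R x).toNat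

theorem addVal_eq_nu {x : R} (hx : x ≠ 0) : addVal R x = (nu x : ℕ∞) :=
  (ENat.coe_toNat (fun h => hx (addVal_eq_top_iff.1 h))).symm

@[simp] theorem nu_one : nu (1 : R) = 0 := by simp [nu]

theorem nu_mul {x y : R} (hx : x ≠ 0) (hy : y ≠ 0) : nu (x * y) = nu x + nu y := by
  have h := addVal_mul (R := R) (a := x) (b := y)
  rw [addVal_eq_nu (mul_ne_zero hx hy), addVal_eq_nu hx, addVal_eq_nu hy] at h
  exact_mod_cast h

theorem nu_pow {x : R} (hx : x ≠ 0) : ∀ k : ℕ, nu (x ^ k) = k * nu x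
  | 0 => by simp
  | k + 1 => by rw [pow_succ, nu_mul (pow_ne_zero k hx) hx, nu_pow hx k]; ring

theorem nu_prod {ι : Type*} (s : Finset ι) (f : ι → R) (hf : ∀ i ∈ s, f i ≠ 0) :
    nu (∏ i ∈ s, f i) = ∑ i ∈ s, nu (f i) := by
  classical
  induction s using Finset.induction with
  | empty => simp
  | insert a s ha ih =>
    rw [Finset.forall_mem_insert] at hf
    rw [Finset.prod_insert ha, Finset.sum_insert ha, nu_mul hf.1 (Finset.prod_ne_zero_iff.2 hf.2), ih hf.2]

theorem dvd_iff_nu_le {x y : R} (hx : x ≠ 0) : x ∣ y ↔ y = 0 ∨ nu x ≤ nu y := by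
  rcases eq_or_ne y 0 with rfl | hy
  · simp
  · rw [← addVal_le_iff_dvd, addVal_eq_nu hx, addVal_eq_nu hy, Nat.cast_le]
    simp [hy]

theorem mem_pow_iff {x : R} {k : ℕ} : x ∈ maximalIdeal R ^ k ↔ x = 0 ∨ k ≤ nu x := by
  obtain ⟨ϖ, hϖ⟩ := exists_irreducible R
  have h1 : nu (ϖ ^ k) = k := by rw [nu_pow hϖ.ne_zero, nu, addVal_uniformizer hϖ]; simp
  rw [hϖ.maximalIdeal_eq, Ideal.span_singleton_pow, Ideal.mem_span_singleton,
    dvd_iff_nu_le (pow_ne_zero k hϖ.ne_zero), h1]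

theorem nu_eq_zero_iff {x : R} (hx : x ≠ 0) : nu x = 0 ↔ IsUnit x := by
  rw [← addVal_eq_zero_iff, addVal_eq_nu hx, Nat.cast_eq_zero]

theorem nu_unit {x : R} (hx : IsUnit x) : nu x = 0 := (nu_eq_zero_iff hx.ne_zero).2 hx

theorem nu_neg (x : R) : nu (-x) = nu x := by rw [nu, AddValuation.map_neg]; rfl

theorem min_le_nu_add {x y : R} (h : x + y ≠ 0) (hx : x ≠ 0) (hy : y ≠ 0) : min (nu x) (nu y) ≤ nu (x + y) := by
  have := addVal_add (R := R) (a := x) (b := y)
  rw [addVal_eq_nu h, addVal_eq_nu hx, addVal_eq_nu hy, min_le_iff, Nat.cast_le, Nat.cast_le, ← min_le_iff] at this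
  exact this

theorem nu_add_of_lt {x y : R} (hx : x ≠ 0) (h : y = 0 ∨ nu x < nu y) : x + y ≠ 0 ∧ nu (x + y) = nu x := by
  rcases eq_or_ne y 0 with rfl | hy
  · simp [hx]
  replace h : nu x < nu y := h.resolve_left hy
  have hne : x + y ≠ 0 := fun he => by
    rw [eq_neg_of_add_eq_zero_left he, nu_neg] at h
    exact lt_irrefl _ h
  refine ⟨hne, le_antisymm ?_ (by have := min_le_nu_add hne hx hy; omega)⟩
  rcases eq_or_ne (nu (x + y)) 0 with h0 | h0
  · omega
  · have := min_le_nu_add (x := x + y) (y := -y) (by simpa using hx) hne (neg_ne_zero.2 hy)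
    rw [nu_neg, add_neg_cancel_right] at this
    omega

/-- The valuation of a natural number is its `p`-adic valuation times that of `p`. -/
theorem nu_natCast [CharZero R] (p : ℕ) [hp : Fact p.Prime] (hpm : (p : R) ∈ maximalIdeal R) {k : ℕ} (hk : k ≠ 0) :
    nu (k : R) = padicValNat p k * nu (p : R) := by
  obtain ⟨c, hc⟩ : ∃ c, k = p ^ padicValNat p k * c := pow_padicValNat_dvd
  have hc0 : c ≠ 0 := fun h => hk (by rw [hc, h, mul_zero])
  have hcp : ¬ p ∣ c := fun ⟨d, hd⟩ => pow_succ_padicValNat_not_dvd hk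
    ⟨d, by rw [pow_succ, mul_assoc, ← hd]; exact hc⟩
  have hu : IsUnit (c : R) := by
    by_contra h
    obtain ⟨a, b, hab⟩ := (Nat.Coprime.cast (R := R) ((Nat.Prime.coprime_iff_not_dvd hp.out).2 hcp))
    have : (1 : R) ∈ maximalIdeal R := by
      rw [← hab]
      exact add_mem (Ideal.mul_mem_left _ _ hpm) (Ideal.mul_mem_left _ _ h)
    exact (maximalIdeal.isMaximal R).ne_top ((Ideal.eq_top_iff_one _).2 this)
  have hp0 : (p : R) ≠ 0 := Nat.cast_ne_zero.2 hp.out.ne_zero
  conv_lhs => rw [hc]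
  rw [Nat.cast_mul, Nat.cast_pow, nu_mul (pow_ne_zero _ hp0) hu.ne_zero, nu_unit hu, nu_pow hp0, add_zero]

end Groth.Agent.H06Font
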