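import Groth.Agent.H06Font.DP
import Groth.Agent.H06Font.Lift
import Mathlib.FieldTheory.Minpoly.IsIntegrallyClosed

/-!
# Fontaine's property of the field of points
-/

set_option autoImplicit false
set_option linter.style.haveILetI false
set_option linter.unusedSectionVars false
set_option maxHeartbeats 1000000
universe u v w

open IsLocalRing Polynomial

namespace Groth.Agent.H06Font

variable {O : Type u} [CommRing O] [IsDomain O] [IsDiscreteValuationRing O]
  {R : Type w} [CommRing R] [IsDomain R] [IsDiscreteValuationRing R] [Algebra O R]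

theorem comap_pow_eq_span_mul {C : Type w} [CommRing C] [Algebra O C] (ι : C →ₐ[O] R)
    (hι : Function.Injective ι)
    (hdiv : ∀ (o : O) (z : C) (y : R), o ≠ 0 → ι z = algebraMap O R o * y → ∃ z', ι z' = y)
    (a : O) (ha : a ≠ 0) (haR : algebraMap O R a ≠ 0) (μ : ℕ) :
    (maximalIdeal R ^ (nu (algebraMap O R a) + μ)).comap ι =
      Ideal.span {algebraMap O C a} * (maximalIdeal R ^ μ).comap ι := by
  ext z
  rw [Ideal.mem_span_singleton_mul, Ideal.mem_comap]
  constructor
  · intro hz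
    obtain ⟨y, hy⟩ : algebraMap O R a ∣ ι z := (dvd_iff_nu_le haR).2
      ((mem_pow_iff.1 hz).imp id fun h => le_trans (Nat.le_add_right _ μ) h)
    obtain ⟨z', rfl⟩ := hdiv a z y ha hy
    refine ⟨z', ?_, hι (by rw [map_mul, AlgHom.commutes, hy])⟩
    rw [Ideal.mem_comap, mem_pow_iff]
    rcases eq_or_ne (ι z') 0 with h | h
    · exact Or.inl h
    · refine Or.inr ?_
      have h1 := (mem_pow_iff.1 hz).resolve_left (by rw [hy]; exact mul_ne_zero haR h)
      rw [hy, nu_mul haR h] at h1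
      omega
  · rintro ⟨z', hz', rfl⟩
    rw [map_mul, AlgHom.commutes, mem_pow_iff]
    rcases mem_pow_iff.1 (Ideal.mem_comap.1 hz') with h | h
    · exact Or.inl (by rw [h, mul_zero])
    · rcases eq_or_ne (ι z') 0 with h0 | h0
      · exact Or.inl (by rw [h0, mul_zero])
      · exact Or.inr (by rw [nu_mul haR h0]; omega)

/-- Unique lifting of points of `A` modulo the ideals of large valuation, with loss of `a`. -/
def Lifts (p : ℕ) (A : Type v) [CommRing A] [Algebra O A] (a : O) (R : Type w) [CommRing R] [IsDomain R]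
    [IsDiscreteValuationRing R] [Algebra O R] : Prop :=
  ∀ (C : Type w) [CommRing C] [IsDomain C] [IsDiscreteValuationRing C] [Algebra O C] [Module.Finite O C]
    [Module.Flat O C] (ι : C →ₐ[O] R), Function.Injective ι →
    (∀ (o : O) (z : C) (y : R), o ≠ 0 → ι z = algebraMap O R o * y → ∃ z', ι z' = y) →
    ∀ μ, nu (p : R) < (p - 1) * μ →
      Function.Injective (fun χ : A →ₐ[O] C => (Ideal.Quotient.mkₐ O ((maximalIdeal R ^ μ).comap ι.toRingHom)).comp χ) ∧
        ∀ ψ : A →ₐ[O] C ⧸ Ideal.span {algebraMap O C a} * (maximalIdeal R ^ μ).comap ι.toRingHom,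
          ∃ χ : A →ₐ[O] C, (Ideal.Quotient.mkₐ O ((maximalIdeal R ^ μ).comap ι.toRingHom)).comp χ =
            (Ideal.Quotient.factorₐ O (Ideal.mul_le_right (I := Ideal.span {algebraMap O C a})
              (J := (maximalIdeal R ^ μ).comap ι.toRingHom))).comp ψ

variable [CharZero R] [CharZero O] [IsAdicComplete (maximalIdeal O) O]
  (p : ℕ) [Fact p.Prime] (hp : (p : O) ∈ maximalIdeal O) (hpR : (p : R) ∈ maximalIdeal R)
  {A : Type v} [CommRing A] [Algebra O A] (a : O) (ha : a ≠ 0) (haR : algebraMap O R a ≠ 0)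

include hp hpR ha in
/-- Lifting from freeness of the differentials. -/
theorem lifts_of_kaehler {m : ℕ} (f : Fin m → MvPowerSeries (Fin m) O)
    (eA : (MvPowerSeries (Fin m) O ⧸ Ideal.span (Set.range f)) ≃ₐ[O] A)
    [Module.Finite O A] [Module.Flat O A] (r : ℕ)
    (hΩ : Nonempty (KaehlerDifferential O A ≃ₗ[A] (Fin r → A ⧸ Ideal.span {algebraMap O A a}))) :
    Lifts p A a R := by
  intro C _ _ _ _ _ _ ι hι hdiv μ hμ
  obtain ⟨hI, htn⟩ := exists_dividedPowers p hpR hμ ι.toRingHom hι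
    fun k z y hk he => hdiv (k : O) z y (Nat.cast_ne_zero.2 hk) (by rw [map_natCast]; exact he)
  have L := lift_main O p hp m f A eA a ha r hΩ C _ hI htn
  refine ⟨L.1, fun ψ => ?_⟩
  obtain ⟨χ, hχ⟩ := L.2.symm ▸ (Set.mem_range_self (f := fun ψ => (Ideal.Quotient.factorₐ O
    (Ideal.mul_le_right (I := Ideal.span {algebraMap O C a}) (J := (maximalIdeal R ^ μ).comap ι.toRingHom))).comp ψ) ψ)
  exact ⟨χ, hχ⟩

variable (hlift : Lifts p A a R)

include ha haR hlift in
/-- If the equation of `θ` nearly vanishes at `x`, all points of `A` are defined over the ring of `x`. -/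
theorem points_descend {BL : Type w} [CommRing BL] [IsDomain BL] [IsDiscreteValuationRing BL] [Algebra O BL]
    [Module.Finite O BL] [Module.Flat O BL] [Module.IsTorsionFree O BL] [Finite (A →ₐ[O] BL)]
    (iL : BL →ₐ[O] R) (hiL : Function.Injective iL)
    (hdivL : ∀ (o : O) (z : BL) (y : R), o ≠ 0 → iL z = algebraMap O R o * y → ∃ z', iL z' = y)
    {C : Type w} [CommRing C] [IsDomain C] [IsDiscreteValuationRing C] [Algebra O C] [Module.Finite O C]
    [Module.Flat O C]
    (iC : C →ₐ[O] R) (hiC : Function.Injective iC)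
    (hdivC : ∀ (o : O) (z : C) (y : R), o ≠ 0 → iC z = algebraMap O R o * y → ∃ z', iC z' = y)
    (hY : ∀ ψ : A →ₐ[O] R, ∃ φ, iL.comp φ = ψ)
    (θ : BL) (hθ : Algebra.adjoin O {θ} = ⊤) (x : C) (H : O[X])
    (hπ : maximalIdeal BL = Ideal.span {aeval θ H})
    (hH0 : iC (aeval x H) ≠ 0) (hH : nu (iC (aeval x H)) = nu (iL (aeval θ H)))
    (μ : ℕ) (hμ : nu (p : R) < (p - 1) * μ)
    (hF : iC (aeval x (minpoly O θ)) ∈ maximalIdeal R ^ (nu (algebraMap O R a) + μ))
    (φ : A →ₐ[O] BL) : ∃ φ' : A →ₐ[O] C, iC.comp φ' = iL.comp φ := by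
  classical
  have L1 := hlift C iC hiC hdivC μ hμ
  have L2 := hlift BL iL hiL hdivL μ hμ
  let I : Ideal C := (maximalIdeal R ^ μ).comap iC.toRingHom
  let J : Ideal C := Ideal.span {algebraMap O C a} * I
  have hFJ : aeval x (minpoly O θ) ∈ J := by
    show aeval x (minpoly O θ) ∈ Ideal.span {algebraMap O C a} * (maximalIdeal R ^ μ).comap iC
    rw [← comap_pow_eq_span_mul iC hiC hdivC a ha haR μ]
    exact hF
  let q : O[X] →ₐ[O] BL := aeval θ
  have hq : Function.Surjective q := by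
    rw [← AlgHom.range_eq_top, ← Algebra.adjoin_singleton_eq_range_aeval, hθ]
  have hle : RingHom.ker q ≤ RingHom.ker ((Ideal.Quotient.mkₐ O J).comp (aeval x)) := fun P hP => by
    obtain ⟨Q, rfl⟩ := minpoly.isIntegrallyClosed_dvd (Algebra.IsIntegral.isIntegral θ) hP
    rw [RingHom.mem_ker, map_mul]
    show Ideal.Quotient.mk J (aeval x (minpoly O θ)) * _ = 0
    rw [Ideal.Quotient.eq_zero_iff_mem.2 hFJ, zero_mul]
  let h : BL →ₐ[O] C ⧸ J := AlgHom.liftOfSurjective q hq _ hle
  have hh : ∀ P : O[X], h (aeval θ P) = Ideal.Quotient.mk J (aeval x P) := fun P =>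
    AlgHom.congr_fun (AlgHom.liftOfSurjective_comp q hq _ hle) P
  let hI' : BL →ₐ[O] C ⧸ I :=
    (Ideal.Quotient.factorₐ O (Ideal.mul_le_right (I := Ideal.span {algebraMap O C a}) (J := I))).comp h
  have hπ0 : Irreducible (aeval θ H) := (IsDiscreteValuationRing.irreducible_iff_uniformizer _).2 hπ
  have hker : ∀ b : BL, hI' b = 0 → b ∈ (maximalIdeal R ^ μ).comap iL.toRingHom := by
    intro b hb
    rcases eq_or_ne b 0 with rfl | hb0
    · exact zero_mem _
    obtain ⟨k, u, rfl⟩ := IsDiscreteValuationRing.eq_unit_mul_pow_irreducible hb0 hπ0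
    rw [map_mul, map_pow, IsUnit.mul_right_eq_zero (u.isUnit.map hI'),
      show hI' (aeval θ H) = Ideal.Quotient.mk I (aeval x H) from
        congrArg (Ideal.Quotient.factor (Ideal.mul_le_right (I := Ideal.span {algebraMap O C a}) (J := I))) (hh H), ← map_pow,
      Ideal.Quotient.eq_zero_iff_mem] at hb
    show iL ((u : BL) * aeval θ H ^ k) ∈ maximalIdeal R ^ μ
    have hb' : iC (aeval x H ^ k) ∈ maximalIdeal R ^ μ := hb
    rw [map_pow, mem_pow_iff, nu_pow hH0] at hb'
    have hn : iL (aeval θ H) ≠ 0 := fun e => hπ0.ne_zero (hiL (by rw [e, map_zero]))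
    rw [map_mul, map_pow, mem_pow_iff]
    refine Or.inr ?_
    rw [nu_mul (u.isUnit.map iL).ne_zero (pow_ne_zero k hn), nu_unit (u.isUnit.map iL), nu_pow hn, ← hH]
    rcases hb' with e | e
    · exact absurd e (pow_ne_zero k hH0)
    · omega
  have hex : ∀ φ : A →ₐ[O] BL, ∃ χ : A →ₐ[O] C, (Ideal.Quotient.mkₐ O I).comp χ = hI'.comp φ := fun φ =>
    L1.2 (h.comp φ)
  choose χ hχ using hex
  choose T hT using fun φ => hY (iC.comp (χ φ))
  have hTinj : Function.Injective T := fun φ₁ φ₂ e => by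
    have e1 : χ φ₁ = χ φ₂ := AlgHom.ext fun z => hiC (AlgHom.congr_fun
      (show iC.comp (χ φ₁) = iC.comp (χ φ₂) by rw [← hT, ← hT, e]) z)
    refine L2.1 (AlgHom.ext fun z => Ideal.Quotient.eq.2 (hker _ ?_))
    rw [map_sub, sub_eq_zero]
    exact (AlgHom.congr_fun (hχ φ₁) z).symm.trans (e1 ▸ AlgHom.congr_fun (hχ φ₂) z)
  obtain ⟨φ₀, hφ₀⟩ := Finite.surjective_of_injective hTinj φ
  exact ⟨χ φ₀, by rw [← hT, hφ₀]⟩

end Groth.Agent.H06Font
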