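import Groth.Agent.H06Font.Roots
import Groth.Agent.H06Font.Points
import Groth.Agent.H06Font.Arith
import Mathlib.FieldTheory.IsAlgClosed.AlgebraicClosure
import Mathlib.FieldTheory.KummerPolynomial
import Mathlib.RingTheory.IntegralClosure.Algebra.Basic

/-!
# Auxiliary facts on the perturbed extension
-/

set_option autoImplicit false
set_option linter.style.haveILetI false
set_option linter.unusedSectionVars false
universe u

open IsLocalRing Polynomial IntermediateField

namespace Groth.Agent.H06Font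

section Inclusion

variable {O K Ω : Type u} [CommRing O] [Field K] [Field Ω] [Algebra O K] [Algebra K Ω] [Algebra O Ω]
  [IsScalarTower O K Ω] {E M : IntermediateField K Ω} (h : E ≤ M)

/-- The inclusion of integral closures. -/
noncomputable def icMap : integralClosure O E →ₐ[O] integralClosure O M :=
  ((IntermediateField.inclusion h).restrictScalars O).mapIntegralClosure

theorem coe_icMap (x : integralClosure O E) : (((icMap h x : integralClosure O M) : M) : Ω) = ((x : E) : Ω) := rfl

theorem icMap_injective : Function.Injective (icMap (O := O) h) := fun x y e => by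
  have := congrArg (fun z : integralClosure O M => ((z : M) : Ω)) e
  simp only [coe_icMap] at this
  exact Subtype.ext (Subtype.ext this)

theorem icMap_div (hinj : Function.Injective (algebraMap O K)) (o : O) (z : integralClosure O E)
    (y : integralClosure O M) (ho : o ≠ 0) (hz : icMap h z = algebraMap O (integralClosure O M) o * y) :
    ∃ z', icMap h z' = y := by
  have h0 : algebraMap O Ω o ≠ 0 := by
    rw [IsScalarTower.algebraMap_apply O K Ω]
    exact fun e => ho (hinj (((map_eq_zero (algebraMap K Ω)).1 e).trans (map_zero _).symm))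
  have h1 : ((z : E) : Ω) = algebraMap O Ω o * ((y : M) : Ω) := by
    rw [← coe_icMap h, hz]; rfl
  have hmem : ((y : M) : Ω) ∈ E := by
    rw [show ((y : M) : Ω) = ((z : E) : Ω) * (algebraMap O Ω o)⁻¹ by rw [h1, mul_comm, inv_mul_cancel_left₀ h0]]
    exact mul_mem (z : E).2 (inv_mem (by rw [IsScalarTower.algebraMap_apply O K Ω]; exact E.algebraMap_mem _))
  refine ⟨⟨⟨((y : M) : Ω), hmem⟩, ?_⟩, ?_⟩
  · refine (isIntegral_algHom_iff (E.val.restrictScalars O) E.val.injective).1 ?_
    exact (y.2.map (M.val.restrictScalars O))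
  · exact Subtype.ext (Subtype.ext rfl)

end Inclusion

section Degree

variable {O K Ω : Type u} [CommRing O] [IsDomain O] [IsDiscreteValuationRing O] [Field K] [Field Ω]
  [Algebra O K] [IsFractionRing O K] [Algebra K Ω]

/-- Roots of a uniformiser of prime degree generate extensions of that degree. -/
theorem finrank_root {N : ℕ} (hN : N.Prime) {ϖ : O} (hϖ : Irreducible ϖ) {ω : Ω}
    (hω : ω ^ N = algebraMap K Ω (algebraMap O K ϖ)) : Module.finrank K K⟮ω⟯ = N := by
  have hne : ∀ b : K, b ^ N ≠ algebraMap O K ϖ := by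
    intro b hb
    obtain ⟨c, rfl⟩ := IsIntegrallyClosed.algebraMap_eq_of_integral
      (show IsIntegral O b from IsIntegral.of_pow hN.pos (by rw [hb]; exact isIntegral_algebraMap))
    rw [← map_pow] at hb
    have h1 : c ^ N = ϖ := IsFractionRing.injective O K hb
    have h2 : IsUnit c := (hϖ.isUnit_or_isUnit (show ϖ = c * c ^ (N - 1) by
      rw [← pow_succ', Nat.sub_add_cancel hN.pos, h1])).elim id fun h => (isUnit_pow_iff (by have := hN.two_le; omega)).1 h
    exact hϖ.not_isUnit (h1 ▸ h2.pow N)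
  have hirr := X_pow_sub_C_irreducible_of_prime hN hne
  have hint : IsIntegral K ω := ⟨X ^ N - C (algebraMap O K ϖ), monic_X_pow_sub_C _ hN.ne_zero, by simp [hω]⟩
  rw [adjoin.finrank hint, ← minpoly.eq_of_irreducible_of_monic hirr (by simp [hω]) (monic_X_pow_sub_C _ hN.ne_zero),
    natDegree_X_pow_sub_C]

/-- Degree of the field generated by two elements. -/
theorem finrank_adjoin_pair_le {ω x : Ω} (n : ℕ) (hω : IsIntegral K ω) (P : K⟮ω⟯[X]) (hP : P.Monic)
    (hdeg : P.natDegree = n) (hx : aeval x P = 0) :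
    ∃ E : IntermediateField K Ω, ω ∈ E ∧ x ∈ E ∧ FiniteDimensional K E ∧
      Module.finrank K E ≤ Module.finrank K K⟮ω⟯ * n := by
  have hxi : IsIntegral K⟮ω⟯ x := ⟨P, hP, hx⟩
  haveI : FiniteDimensional K K⟮ω⟯ := adjoin.finiteDimensional hω
  haveI : FiniteDimensional K⟮ω⟯ K⟮ω⟯⟮x⟯ := adjoin.finiteDimensional hxi
  haveI : FiniteDimensional K K⟮ω⟯⟮x⟯ := FiniteDimensional.trans K K⟮ω⟯ K⟮ω⟯⟮x⟯
  refine ⟨K⟮ω⟯⟮x⟯.restrictScalars K, ?_, ?_, ?_, ?_⟩
  · rw [IntermediateField.mem_restrictScalars]
    exact K⟮ω⟯⟮x⟯.algebraMap_mem ⟨ω, mem_adjoin_simple_self K ω⟩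
  · rw [IntermediateField.mem_restrictScalars]
    exact mem_adjoin_simple_self _ x
  · exact ‹FiniteDimensional K K⟮ω⟯⟮x⟯›
  · show Module.finrank K K⟮ω⟯⟮x⟯ ≤ _
    rw [← Module.finrank_mul_finrank K K⟮ω⟯ K⟮ω⟯⟮x⟯, adjoin.finrank hxi, ← hdeg]
    exact Nat.mul_le_mul_left _ (natDegree_le_of_dvd (minpoly.dvd _ _ hx) hP.ne_zero)

end Degree

/-- The valuations of `x - r g` for the closest root `r 1`. -/
theorem nu_sub_eq_min {R : Type u} [CommRing R] [IsDomain R] [IsDiscreteValuationRing R] {a b c : R}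
    (hab : a - b ≠ 0) (hbc : b - c ≠ 0) (hac : a - c ≠ 0) (hle : nu (a - c) ≤ nu (a - b)) :
    nu (a - c) = min (nu (a - b)) (nu (b - c)) := by
  have h : a - c = (a - b) + (b - c) := by ring
  rcases lt_trichotomy (nu (a - b)) (nu (b - c)) with hlt | heq | hgt
  · rw [min_eq_left hlt.le, h, (nu_add_of_lt hab (Or.inr hlt)).2]
  · have := min_le_nu_add (h ▸ hac) hab hbc
    rw [← h] at this
    omega
  · rw [min_eq_right hgt.le, h, add_comm, (nu_add_of_lt hbc (Or.inr hgt)).2]

end Groth.Agent.H06Font
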