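import Groth.Agent.H06Font.Nu
import Mathlib.Algebra.Algebra.Basic
import Mathlib.Data.Nat.Choose.Sum
import Mathlib.RingTheory.AdicCompletion.Basic
import Mathlib.RingTheory.Ideal.Operations

/-!
# Roots of units close to one
-/

set_option autoImplicit false
set_option linter.unusedSectionVars false
universe u v

open IsLocalRing

namespace Groth.Agent.H06Font

section Binomial

variable {T : Type u} [CommRing T] [IsDomain T] [IsDiscreteValuationRing T] [CharZero T]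
  (p : ℕ) [hp : Fact p.Prime] (hpT : (p : T) ∈ maximalIdeal T) {ϖ : T} (hϖ : Irreducible ϖ)

include hpT hϖ in
/-- Binomial coefficients are negligible past the linear term. -/
theorem pow_dvd_choose_mul {k : ℕ} (hk : nu (p : T) < (p - 1) * k) (m : ℕ) (hm : m ≠ 0) :
    ∀ i, 2 ≤ i → ∀ j, k ≤ j → ϖ ^ (nu (m : T) + j + 1) ∣ (m.choose i : T) * ϖ ^ (j * i) := by
  intro i hi j hj
  have hϖn : ∀ l, nu (ϖ ^ l) = l := fun l => by
    rw [nu_pow hϖ.ne_zero, nu, IsDiscreteValuationRing.addVal_uniformizer hϖ]; simp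
  rcases Nat.lt_or_ge m i with hmi | hmi
  · rw [Nat.choose_eq_zero_of_lt hmi, Nat.cast_zero, zero_mul]; exact dvd_zero _
  obtain ⟨i', rfl⟩ : ∃ i', i = i' + 1 := ⟨i - 1, by omega⟩
  obtain ⟨m', rfl⟩ : ∃ m', m = m' + 1 := ⟨m - 1, by omega⟩
  have hc0 : ((m' + 1).choose (i' + 1) : T) ≠ 0 := Nat.cast_ne_zero.2 (Nat.choose_pos hmi).ne'
  have h1 : nu ((m' + 1).choose (i' + 1) : T) + nu ((i' + 1 : ℕ) : T) =
      nu ((m' + 1 : ℕ) : T) + nu (m'.choose i' : T) := by
    rw [← nu_mul hc0 (Nat.cast_ne_zero.2 (Nat.succ_ne_zero i')), ← nu_mul (Nat.cast_ne_zero.2 (Nat.succ_ne_zero m'))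
      (Nat.cast_ne_zero.2 (Nat.choose_pos (by omega)).ne'), ← Nat.cast_mul, ← Nat.cast_mul,
      Nat.add_one_mul_choose_eq]
  have h2 : nu ((i' + 1 : ℕ) : T) < i' * k := by
    rw [nu_natCast p hpT (Nat.succ_ne_zero i')]
    have hv : (p - 1) * padicValNat p (i' + 1) ≤ i' := by
      have h := sub_one_mul_padicValNat_factorial_lt_of_ne_zero (p := p) (Nat.succ_ne_zero i')
      have hle : padicValNat p (i' + 1) ≤ padicValNat p (i' + 1).factorial := by
        rw [Nat.factorial_succ, padicValNat.mul (Nat.succ_ne_zero _) (Nat.factorial_ne_zero _)]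
        exact Nat.le_add_right _ _
      exact Nat.lt_succ_iff.1 (lt_of_le_of_lt (Nat.mul_le_mul_left (p - 1) hle) h)
    rcases Nat.eq_zero_or_pos (padicValNat p (i' + 1)) with h0 | h0
    · rw [h0, zero_mul]
      exact Nat.mul_pos (by omega) (Nat.pos_of_mul_pos_left (lt_of_le_of_lt (Nat.zero_le _) hk))
    · calc padicValNat p (i' + 1) * nu (p : T) < padicValNat p (i' + 1) * ((p - 1) * k) :=
            Nat.mul_lt_mul_of_pos_left hk h0
        _ = (p - 1) * padicValNat p (i' + 1) * k := by ring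
        _ ≤ i' * k := Nat.mul_le_mul_right _ hv
  refine (dvd_iff_nu_le (pow_ne_zero _ hϖ.ne_zero)).2 (Or.inr ?_)
  rw [hϖn, nu_mul hc0 (pow_ne_zero _ hϖ.ne_zero), hϖn]
  have h5 : i' * k ≤ i' * j := Nat.mul_le_mul_left _ hj
  rw [mul_add, mul_one, mul_comm j i']
  omega

end Binomial

section Roots

variable {S : Type v} [CommRing S] {π : S} (hπ : IsSMulRegular S π) {m ν k : ℕ} {u : S} (hu : IsUnit u)
  (hm : (m : S) = π ^ ν * u) (hk : 1 ≤ k)
  (hbin : ∀ i, 2 ≤ i → ∀ j, k ≤ j → π ^ (ν + j + 1) ∣ (m.choose i : S) * π ^ (j * i))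

include hbin in
theorem exists_one_add_pow {j : ℕ} (hj : k ≤ j) (y : S) :
    ∃ z, (1 + π ^ j * y) ^ m = 1 + (m : S) * (π ^ j * y) + π ^ (ν + j + 1) * z := by
  rw [add_comm (1 : S), add_pow]
  rcases m with _ | m
  · exact ⟨0, by simp⟩
  rw [Finset.sum_range_succ', Finset.sum_range_succ']
  have hdvd : π ^ (ν + j + 1) ∣ ∑ x ∈ Finset.range m,
      (π ^ j * y) ^ (x + 1 + 1) * 1 ^ (m + 1 - (x + 1 + 1)) * ((m + 1).choose (x + 1 + 1) : S) := by
    refine Finset.dvd_sum fun x _ => ?_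
    obtain ⟨c, hc⟩ := hbin (x + 1 + 1) (by omega) j hj
    refine ⟨c * y ^ (x + 1 + 1), ?_⟩
    rw [one_pow, mul_one, mul_pow, ← pow_mul]
    linear_combination (y ^ (x + 1 + 1)) * hc
  obtain ⟨z, hz⟩ := hdvd
  refine ⟨z, ?_⟩
  rw [hz]
  simp
  ring

include hπ hu hm hbin in
theorem eq_one_of_pow_eq_one (hsep : ∀ z : S, (∀ j, π ^ j ∣ z) → z = 0) {x : S} (hx : π ^ k ∣ x - 1)
    (h : x ^ m = 1) : x = 1 := by
  rw [← sub_eq_zero]
  refine hsep _ fun j => ?_
  suffices ∀ d, π ^ (k + d) ∣ x - 1 from (pow_dvd_pow π (Nat.le_add_left j k)).trans (this j)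
  intro d
  induction d with
  | zero => exact hx
  | succ d ih =>
    obtain ⟨y, hy⟩ := ih
    obtain ⟨z, hz⟩ := exists_one_add_pow hbin (Nat.le_add_right k d) y
    rw [← hy, add_sub_cancel, h] at hz
    have h0 : π ^ (ν + (k + d)) * (u * y + π * z) = 0 := by
      rw [hy, hm] at hz
      linear_combination -hz
    have h1 : u * y + π * z = 0 := (hπ.pow _).right_eq_zero_of_smul (by rw [smul_eq_mul]; exact h0)
    obtain ⟨v, hv⟩ := hu.exists_left_inv
    refine ⟨-(v * z), ?_⟩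
    rw [hy]
    linear_combination (π ^ (k + d) * v) * h1 - (π ^ (k + d) * y) * hv

include hu hm hk hbin in
theorem root_step {j : ℕ} (hj : k ≤ j) {w v : S} (h : π ^ (ν + j) ∣ v ^ m * w - 1) :
    ∃ v', π ^ j ∣ v' - v ∧ π ^ (ν + (j + 1)) ∣ v' ^ m * w - 1 := by
  obtain ⟨c, hc⟩ := h
  obtain ⟨ui, hui⟩ := hu.exists_left_inv
  obtain ⟨z, hz⟩ := exists_one_add_pow hbin hj (-(ui * c))
  refine ⟨v * (1 + π ^ j * -(ui * c)), ⟨-(v * (ui * c)), by ring⟩, ?_⟩
  obtain ⟨l, rfl⟩ : ∃ l, j = l + 1 := ⟨j - 1, by omega⟩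
  refine ⟨-(π ^ (ν + l) * c * c) + z * (1 + π ^ (ν + (l + 1)) * c), ?_⟩
  rw [mul_pow, hz, hm]
  rw [sub_eq_iff_eq_add] at hc
  linear_combination ((1 + π ^ ν * u * (π ^ (l + 1) * -(ui * c)) + π ^ (ν + (l + 1) + 1) * z)) * hc
    + (-(π ^ (ν + (l + 1)) * c) * (1 + π ^ (ν + (l + 1)) * c)) * hui

include hπ hu hm hk hbin in
/-- Inverse roots of elements close to one. -/
theorem exists_root [IsAdicComplete (Ideal.span {π}) S] {w : S} (hw : π ^ (ν + k) ∣ w - 1) :
    ∃ v, π ^ k ∣ v - 1 ∧ v ^ m * w = 1 := by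
  choose! next hnext hnext' using fun (j : ℕ) (hj : k ≤ j) (v : S) (h : π ^ (ν + j) ∣ v ^ m * w - 1) =>
    root_step hu hm hk hbin hj h
  let s : ℕ → S := fun d => Nat.rec (motive := fun _ => S) 1 (fun d v => next (k + d) v) d
  have hs : ∀ d, π ^ (ν + (k + d)) ∣ s d ^ m * w - 1 := by
    intro d
    induction d with
    | zero => simpa [s] using hw
    | succ d ih => exact hnext' _ (Nat.le_add_right k d) _ ih
  have hd : ∀ d, π ^ (k + d) ∣ s (d + 1) - s d := fun d => hnext _ (Nat.le_add_right k d) _ (hs d)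
  have hcau : ∀ a b, a ≤ b → π ^ (k + a) ∣ s b - s a := by
    intro a b hab
    induction b, hab using Nat.le_induction with
    | base => simp
    | succ b hab ih =>
      rw [← sub_add_sub_cancel (s (b + 1)) (s b) (s a)]
      exact dvd_add ((pow_dvd_pow π (by omega)).trans (hd b)) ih
  have hmem : ∀ (n : ℕ) (x y : S), x ≡ y [SMOD (Ideal.span {π} ^ n • ⊤ : Ideal S)] ↔ π ^ n ∣ x - y := fun n x y => by
    rw [SModEq.sub_mem, smul_eq_mul, Ideal.mul_top, Ideal.span_singleton_pow, Ideal.mem_span_singleton]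
  obtain ⟨L, hL⟩ := IsPrecomplete.prec (I := Ideal.span {π}) inferInstance (f := s) fun {a b} hab => by
    rw [hmem, dvd_sub_comm]
    exact (pow_dvd_pow π (Nat.le_add_left a k)).trans (hcau a b hab)
  have hL' : ∀ n, π ^ n ∣ L - s n := fun n => by rw [dvd_sub_comm, ← hmem]; exact hL n
  refine ⟨L, ?_, ?_⟩
  · rw [← sub_add_sub_cancel L (s k) 1]
    exact dvd_add (hL' k) (by simpa [s] using hcau 0 k (Nat.zero_le k))
  · rw [← sub_eq_zero]
    refine IsHausdorff.haus (I := Ideal.span {π}) inferInstance _ fun n => ?_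
    rw [hmem, sub_zero]
    have h1 : π ^ n ∣ L ^ m * w - s n ^ m * w := by
      rw [← sub_mul]; exact Dvd.dvd.mul_right ((hL' n).trans (sub_dvd_pow_sub_pow _ _ m)) w
    rw [← sub_add_sub_cancel (L ^ m * w) (s n ^ m * w) 1]
    exact dvd_add h1 ((pow_dvd_pow π (by omega)).trans (hs n))

end Roots

end Groth.Agent.H06Font
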