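import Groth.Agent.H06Font.Mono
import Mathlib.RingTheory.DedekindDomain.Different
import Mathlib.RingTheory.IntegralClosure.IntegralRestrict
import Mathlib.RingTheory.Invariant.Galois
import Mathlib.RingTheory.IsGaloisGroup.Basic
import Mathlib.NumberTheory.RamificationInertia.Galois
import Mathlib.RingTheory.LocalRing.ResidueField.Ideal
import Mathlib.FieldTheory.Minpoly.IsIntegrallyClosed

/-!
# Conjugates of a generator of the integral closure
-/

set_option autoImplicit false
set_option linter.style.haveILetI false
set_option linter.unusedSectionVars false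
set_option maxHeartbeats 1000000
universe u

open IsLocalRing Polynomial

namespace Groth.Agent.H06Font

variable {O K L : Type u} [CommRing O] [IsDomain O] [IsDiscreteValuationRing O]
  [Field K] [Algebra O K] [IsFractionRing O K] [Field L] [Algebra K L] [Algebra O L] [IsScalarTower O K L]
  [FiniteDimensional K L] [IsGalois K L]
  [IsDiscreteValuationRing (integralClosure O L)] [Module.Finite O (integralClosure O L)]

variable (O) in
/-- The Galois action on the integral closure. -/
noncomputable def gam (g : L ≃ₐ[K] L) : integralClosure O L ≃ₐ[O] integralClosure O L :=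
  galRestrict O K L (integralClosure O L) g

theorem coe_gam (g : L ≃ₐ[K] L) (b : integralClosure O L) : (gam O g b : L) = g (b : L) :=
  algebraMap_galRestrict_apply O g b

theorem gam_one_apply (b : integralClosure O L) : gam O (1 : L ≃ₐ[K] L) b = b :=
  Subtype.ext (coe_gam 1 b)

theorem gam_mul_apply (g h : L ≃ₐ[K] L) (b : integralClosure O L) : gam O (g * h) b = gam O g (gam O h b) :=
  Subtype.ext (by rw [coe_gam, coe_gam, coe_gam]; rfl)

theorem nu_gam (g : L ≃ₐ[K] L) {b : integralClosure O L} (hb : b ≠ 0) : nu (gam O g b) = nu b := by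
  obtain ⟨π, hπ⟩ := IsDiscreteValuationRing.exists_irreducible (integralClosure O L)
  haveI : IsLocalHom (gam O g).toRingEquiv.toRingHom := ⟨fun a ha => by
    simpa using ha.map (gam O g).toRingEquiv.symm.toRingHom⟩
  have := nu_map (gam O g).toRingEquiv.toRingHom (gam O g).injective hπ hb
  have h1 : nu ((gam O g).toRingEquiv.toRingHom π) = 1 := by
    rw [nu, IsDiscreteValuationRing.addVal_uniformizer]
    · rfl
    · exact (MulEquiv.irreducible_iff (gam O g).toMulEquiv).2 hπ
  rw [h1, mul_one] at this
  exact this

variable {θ : integralClosure O L} (hθ : Algebra.adjoin O {θ} = ⊤)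

include hθ in
theorem gam_injective : Function.Injective fun g : L ≃ₐ[K] L => gam O g θ := by
  intro g h e
  apply (galRestrict O K L (integralClosure O L)).injective
  have := AlgHom.ext_of_adjoin_eq_top hθ (φ₁ := (gam O g).toAlgHom) (φ₂ := (gam O h).toAlgHom)
    (by rintro _ rfl; exact e)
  exact AlgEquiv.ext fun b => AlgHom.congr_fun this b

variable [DecidableEq (L ≃ₐ[K] L)]

include hθ in
theorem minpoly_map_eq :
    (minpoly O θ).natDegree = Fintype.card (L ≃ₐ[K] L) ∧
      (minpoly O θ).map (algebraMap O (integralClosure O L)) = ∏ g : L ≃ₐ[K] L, (X - C (gam O g θ)) := by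
  classical
  haveI : FaithfulSMul O L := (faithfulSMul_iff_algebraMap_injective O L).2 (by
    rw [IsScalarTower.algebraMap_eq O K L]
    exact (algebraMap K L).injective.comp (IsFractionRing.injective O K))
  have hθi : IsIntegral O θ := Algebra.IsIntegral.isIntegral θ
  have hmon := minpoly.monic hθi
  set F := (minpoly O θ).map (algebraMap O (integralClosure O L)) with hF
  have hev : ∀ g : L ≃ₐ[K] L, F.eval (gam O g θ) = 0 := fun g => by
    rw [hF, eval_map_algebraMap, aeval_algHom_apply, minpoly.aeval, map_zero]
  have hdeg : (minpoly O θ).natDegree ≤ Fintype.card (L ≃ₐ[K] L) := by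
    rw [← Nat.card_eq_fintype_card, IsGalois.card_aut_eq_finrank]
    have h1 := minpoly.natDegree_le (A := K) (algebraMap (integralClosure O L) L θ)
    rwa [minpoly.isIntegrallyClosed_eq_field_fractions K L hθi, (hmon.natDegree_map _)] at h1
  have hge : Fintype.card (L ≃ₐ[K] L) ≤ (minpoly O θ).natDegree := by
    by_contra h
    refine (hmon.map (algebraMap O (integralClosure O L))).ne_zero
      (eq_zero_of_natDegree_lt_card_of_eval_eq_zero F (gam_injective hθ) hev ?_)
    rw [hF, hmon.natDegree_map]
    exact Nat.lt_of_not_le h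
  have heq := le_antisymm hdeg hge
  refine ⟨heq, ?_⟩
  have hG : (∏ g : L ≃ₐ[K] L, (X - C (gam O g θ))).Monic := monic_prod_of_monic _ _ fun g _ => monic_X_sub_C _
  rw [← sub_eq_zero]
  by_contra hne
  refine hne (eq_zero_of_natDegree_lt_card_of_eval_eq_zero _ (gam_injective (K := K) hθ) (fun g => ?_) ?_)
  · rw [eval_sub, hev, eval_prod, Finset.prod_eq_zero (Finset.mem_univ g) (by simp), sub_zero]
  · have hd : F.degree = (∏ g : L ≃ₐ[K] L, (X - C (gam O g θ))).degree := by
      rw [degree_eq_natDegree (hmon.map _).ne_zero, degree_eq_natDegree hG.ne_zero, hmon.natDegree_map,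
        natDegree_prod_of_monic _ _ fun g _ => monic_X_sub_C _, heq]
      simp
    have := degree_sub_lt hd (hmon.map _).ne_zero (by rw [(hmon.map _).leadingCoeff, hG.leadingCoeff])
    rw [← heq, ← hmon.natDegree_map (algebraMap O (integralClosure O L))]
    exact natDegree_lt_natDegree hne this

include hθ in
theorem aeval_derivative_eq :
    aeval θ (derivative (minpoly O θ)) = ∏ g ∈ Finset.univ.erase (1 : L ≃ₐ[K] L), (θ - gam O g θ) := by
  rw [← eval_map_algebraMap, ← derivative_map, (minpoly_map_eq (K := K) hθ).2,
    ← Finset.mul_prod_erase _ _ (Finset.mem_univ (1 : L ≃ₐ[K] L)), derivative_mul, eval_add, eval_mul, eval_mul,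
    gam_one_apply, eval_prod]
  simp

include hθ in
theorem sub_gam_ne_zero {g : L ≃ₐ[K] L} (hg : g ≠ 1) : θ - gam O g θ ≠ 0 := fun h => hg
  (gam_injective hθ (show gam O g θ = gam O 1 θ by rw [gam_one_apply]; exact (sub_eq_zero.1 h).symm))

variable [Module.IsTorsionFree O (integralClosure O L)]

include hθ in
theorem differentIdeal_eq :
    differentIdeal O (integralClosure O L) =
      maximalIdeal (integralClosure O L) ^ ∑ g ∈ Finset.univ.erase (1 : L ≃ₐ[K] L), nu (gam O g θ - θ) := by
  haveI : FaithfulSMul O L := (faithfulSMul_iff_algebraMap_injective O L).2 (by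
    rw [IsScalarTower.algebraMap_eq O K L]
    exact (algebraMap K L).injective.comp (IsFractionRing.injective O K))
  haveI : FaithfulSMul O (integralClosure O L) := (faithfulSMul_iff_algebraMap_injective O _).2
    fun a b h => FaithfulSMul.algebraMap_injective O L (congrArg Subtype.val h)
  haveI : Module.IsTorsionFree O (integralClosure O L) :=
    Module.isTorsionFree_iff_algebraMap_injective.2 (FaithfulSMul.algebraMap_injective O (integralClosure O L))
  have hprim : Algebra.adjoin K {algebraMap (integralClosure O L) L θ} = ⊤ := by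
    have h1 : IntermediateField.adjoin K {(θ : L)} = ⊤ := (Field.primitive_element_iff_minpoly_natDegree_eq K _).2 (by
      show (minpoly K (algebraMap (integralClosure O L) L θ)).natDegree = _
      rw [minpoly.isIntegrallyClosed_eq_field_fractions K L (Algebra.IsIntegral.isIntegral (R := O) θ),
        (minpoly.monic (Algebra.IsIntegral.isIntegral (R := O) θ)).natDegree_map, (minpoly_map_eq (K := K) hθ).1,
        ← Nat.card_eq_fintype_card, IsGalois.card_aut_eq_finrank])
    show Algebra.adjoin K {(θ : L)} = ⊤
    rw [← IntermediateField.adjoin_simple_toSubalgebra_of_isAlgebraic (Algebra.IsAlgebraic.isAlgebraic _), h1,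
      IntermediateField.top_toSubalgebra]
  have h := conductor_mul_differentIdeal O K L θ hprim
  rw [conductor_eq_top_of_adjoin_eq_top hθ, Ideal.top_mul] at h
  have hne : aeval θ (derivative (minpoly O θ)) ≠ 0 := by
    rw [aeval_derivative_eq (K := K) hθ, Finset.prod_ne_zero_iff]
    exact fun g hg => sub_gam_ne_zero hθ (Finset.ne_of_mem_erase hg)
  rw [h]
  ext z
  rw [Ideal.mem_span_singleton, dvd_iff_nu_le hne, mem_pow_iff, aeval_derivative_eq (K := K) hθ,
    nu_prod _ _ fun g hg => sub_gam_ne_zero hθ (Finset.ne_of_mem_erase hg)]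
  simp only [← nu_neg (gam O _ θ - θ), neg_sub]

omit [Module.IsTorsionFree O (integralClosure O L)]
variable [PerfectField (ResidueField O)] [Module.Flat O (integralClosure O L)]

include hθ in
theorem card_inertia_le {ϖ : O} (hϖ : Irreducible ϖ) :
    ((Finset.univ.erase (1 : L ≃ₐ[K] L)).filter fun g => 1 ≤ nu (gam O g θ - θ)).card + 1 ≤
      nu (algebraMap O (integralClosure O L) ϖ) := by
  classical
  let P := maximalIdeal (integralClosure O L)
  haveI : FaithfulSMul O L := (faithfulSMul_iff_algebraMap_injective O L).2 (by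
    rw [IsScalarTower.algebraMap_eq O K L]
    exact (algebraMap K L).injective.comp (IsFractionRing.injective O K))
  haveI : IsFractionRing (integralClosure O L) L :=
    IsIntegralClosure.isFractionRing_of_finite_extension O K L (integralClosure O L)
  letI := IsIntegralClosure.MulSemiringAction O K L (integralClosure O L)
  haveI : IsGaloisGroup (L ≃ₐ[K] L) O (integralClosure O L) :=
    IsGaloisGroup.of_isFractionRing (L ≃ₐ[K] L) O (integralClosure O L) K L
  haveI := liesOver_maximalIdeal (O := O) (B := integralClosure O L)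
  letI : Field (O ⧸ maximalIdeal O) := Ideal.Quotient.field _
  haveI : PerfectField (O ⧸ maximalIdeal O) := ‹PerfectField (ResidueField O)›
  haveI : PerfectField (maximalIdeal O).ResidueField :=
    PerfectField.of_ringEquiv (RingEquiv.ofBijective _ (maximalIdeal O).bijective_algebraMap_quotient_residueField)
  rw [← ramificationIdx_eq_nu (FaithfulSMul.algebraMap_injective _ _) hϖ,
    ← Ideal.ramificationIdxIn_eq_ramificationIdx (maximalIdeal O) P (L ≃ₐ[K] L),
    ← Ideal.card_inertia_eq_ramificationIdxIn (G := L ≃ₐ[K] L) (maximalIdeal O) P]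
  have hsub : ∀ g ∈ insert (1 : L ≃ₐ[K] L)
      ((Finset.univ.erase (1 : L ≃ₐ[K] L)).filter fun g => 1 ≤ nu (gam O g θ - θ)), g ∈ P.inertia (L ≃ₐ[K] L) := by
    intro g hg
    rcases Finset.mem_insert.1 hg with rfl | hg
    · exact one_mem _
    intro b
    show gam O g b - b ∈ P
    have hθg : gam O g θ - θ ∈ P := by
      rw [← pow_one P, mem_pow_iff]; exact Or.inr (Finset.mem_filter.1 hg).2
    have := AlgHom.ext_of_adjoin_eq_top hθ (φ₁ := (Ideal.Quotient.mkₐ O P).comp (gam O g).toAlgHom)
      (φ₂ := Ideal.Quotient.mkₐ O P) (by rintro _ rfl; exact Ideal.Quotient.eq.2 hθg)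
    exact Ideal.Quotient.eq.1 (AlgHom.congr_fun this b)
  have h1 := Finset.card_insert_of_notMem
    (show (1 : L ≃ₐ[K] L) ∉ (Finset.univ.erase (1 : L ≃ₐ[K] L)).filter fun g => 1 ≤ nu (gam O g θ - θ) from
      fun h => Finset.ne_of_mem_erase (Finset.mem_filter.1 h).1 rfl)
  rw [← h1, Nat.card_eq_fintype_card, Fintype.card_subtype]
  exact Finset.card_le_card fun g hg => Finset.mem_filter.2 ⟨Finset.mem_univ g, hsub g hg⟩

end Groth.Agent.H06Font
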