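import Groth.Agent.H06Font.DPow
import Groth.Agent.H06Font.Deriv
import Mathlib.Data.Nat.Choose.Sum

/-!
# Taylor expansion with divided powers
-/

set_option autoImplicit false
universe u v

open MvPowerSeries W4c1noabschz1

namespace Groth.Agent.H06Font

variable {O : Type u} [CommRing O] {m : ℕ} {S : Type v} [CommRing S] [Algebra O S]
  {I : Ideal S} (hI : DividedPowers I)

theorem map_span_pow_mem (χ : MvPowerSeries (Fin m) O →ₐ[O] S) (E : Ideal S) (L : Fin m → ℕ)
    (h : ∀ j, χ (X j) ^ L j ∈ E) {f : MvPowerSeries (Fin m) O}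
    (hf : f ∈ Ideal.span (Set.range fun j => (X j : MvPowerSeries (Fin m) O) ^ L j)) : χ f ∈ E := by
  have : Ideal.span (Set.range fun j => (X j : MvPowerSeries (Fin m) O) ^ L j) ≤ E.comap χ :=
    Ideal.span_le.2 (by rintro _ ⟨j, rfl⟩; simpa using h j)
  exact this hf

theorem map_box (χ : MvPowerSeries (Fin m) O →ₐ[O] S) (E : Ideal S) (L : Fin m → ℕ)
    (h : ∀ j, χ (X j) ^ L j ∈ E) (g : MvPowerSeries (Fin m) O) :
    χ g - ∑ β ∈ Fintype.piFinset (fun j => Finset.range (L j)),
      algebraMap O S (coeff (fsupp β) g) * ∏ j, χ (X j) ^ β j ∈ E := by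
  have h1 := map_span_pow_mem χ E L h (sub_box_mem L g)
  rw [map_sub, map_sum] at h1
  simpa only [map_monomial] using h1

theorem add_pow_dpow {x h : S} (hh : h ∈ I) {b N : ℕ} (hb : b < N) :
    (x + h) ^ b = ∑ k ∈ Finset.range N, (b.descFactorial k : S) * x ^ (b - k) * hI.dpow k h := by
  rw [← Finset.sum_subset (Finset.range_subset_range.2 hb) fun k _ hk => by
    rw [Nat.descFactorial_of_lt (by simpa using hk), Nat.cast_zero, zero_mul, zero_mul]]
  rw [add_comm x h, add_pow]
  refine Finset.sum_congr rfl fun k _ => ?_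
  rw [← hI.factorial_mul_dpow_eq_pow hh, Nat.descFactorial_eq_factorial_mul_choose, Nat.cast_mul]
  ring

theorem taylor (χ χ' : MvPowerSeries (Fin m) O →ₐ[O] S) (h : Fin m → S) (hh : ∀ j, h j ∈ I)
    (hX : ∀ j, χ' (X j) = χ (X j) + h j) (E : Ideal S) (N₀ : ℕ) (hx : ∀ j, χ (X j) ^ N₀ ∈ E)
    (hx' : ∀ j, χ' (X j) ^ N₀ ∈ E) (hdp : dpPow hI N₀ ≤ E) (g : MvPowerSeries (Fin m) O) :
    χ' g - ∑ α ∈ Fintype.piFinset (fun _ : Fin m => Finset.range N₀),
      χ (der α g) * ∏ j, hI.dpow (α j) (h j) ∈ E := by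
  classical
  obtain ⟨N, hN⟩ : ∃ N, N = 2 * N₀ := ⟨_, rfl⟩
  let B := Fintype.piFinset (fun _ : Fin m => Finset.range N)
  let c : (Fin m → ℕ) → S := fun β => algebraMap O S (coeff (fsupp β) g)
  let D : (Fin m → ℕ) → S := fun α =>
    ∑ β ∈ B, c β * ∏ j, ((β j).descFactorial (α j) : S) * χ (X j) ^ (β j - α j)
  have hpow : ∀ {y : S}, y ^ N₀ ∈ E → y ^ N ∈ E := fun hy => by
    rw [hN, two_mul, pow_add]; exact Ideal.mul_mem_left _ _ hy
  have h1 : χ' g - ∑ α ∈ B, D α * ∏ j, hI.dpow (α j) (h j) ∈ E := by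
    convert map_box χ' E (fun _ => N) (fun j => hpow (hx' j)) g using 2
    rw [show (∑ α ∈ B, D α * ∏ j, hI.dpow (α j) (h j)) = ∑ β ∈ B, ∑ α ∈ B,
        (c β * ∏ j, ((β j).descFactorial (α j) : S) * χ (X j) ^ (β j - α j)) * ∏ j, hI.dpow (α j) (h j) by
      rw [Finset.sum_comm]; simp only [D, Finset.sum_mul]]
    refine Finset.sum_congr rfl fun β hβ => ?_
    have hb : ∀ j, χ' (X j) ^ β j =
        ∑ k ∈ Finset.range N, ((β j).descFactorial k : S) * χ (X j) ^ (β j - k) * hI.dpow k (h j) := fun j => by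
      rw [hX]
      exact add_pow_dpow hI (hh j) (Finset.mem_range.1 (Fintype.mem_piFinset.1 hβ j))
    simp only [hb]
    rw [Finset.prod_univ_sum, Finset.mul_sum]
    refine Finset.sum_congr rfl fun α _ => ?_
    simp only [Finset.prod_mul_distrib, c]
    ring
  let B₀ := Fintype.piFinset (fun _ : Fin m => Finset.range N₀)
  have hsub : B₀ ⊆ B := Fintype.piFinset_subset _ _ fun _ => Finset.range_subset_range.2 (by omega)
  have h2 : ∑ α ∈ B, D α * ∏ j, hI.dpow (α j) (h j) - ∑ α ∈ B₀, D α * ∏ j, hI.dpow (α j) (h j) ∈ E := by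
    rw [← Finset.sum_sdiff hsub, add_sub_cancel_right]
    refine sum_mem fun α hα => Ideal.mul_mem_left _ _ ?_
    obtain ⟨j, hj⟩ : ∃ j, N₀ ≤ α j := by
      by_contra hne
      push Not at hne
      exact (Finset.mem_sdiff.1 hα).2 (Fintype.mem_piFinset.2 fun j => Finset.mem_range.2 (hne j))
    exact Ideal.prod_mem E (Finset.mem_univ j) (hdp (dpPow_antitone hI hj (dpow_mem_dpPow hI (hh j) (α j))))
  have h3 : ∀ α ∈ B₀, χ (der α g) - D α ∈ E := by
    intro α hα
    have hαN : ∀ j, α j < N₀ := fun j => Finset.mem_range.1 (Fintype.mem_piFinset.1 hα j)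
    convert map_box χ E (fun j => N - α j) (fun j => ?_) (der α g) using 2
    · let Bf := B.filter fun β => ∀ j, α j ≤ β j
      show ∑ β ∈ B, c β * ∏ j, ((β j).descFactorial (α j) : S) * χ (X j) ^ (β j - α j) = _
      rw [← Finset.sum_subset (Finset.filter_subset (fun β => ∀ j, α j ≤ β j) B) fun β hβ hβ' => by
        obtain ⟨j, hj⟩ : ∃ j, β j < α j := by
          by_contra hne
          push Not at hne
          exact hβ' (Finset.mem_filter.2 ⟨hβ, hne⟩)
        rw [Finset.prod_eq_zero (Finset.mem_univ j) (by rw [Nat.descFactorial_of_lt hj, Nat.cast_zero, zero_mul]),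
          mul_zero]]
      refine Finset.sum_nbij' (fun β j => β j - α j) (fun n j => n j + α j) ?_ ?_ ?_ ?_ ?_
      · intro β hβ
        obtain ⟨hb, hab⟩ := Finset.mem_filter.1 hβ
        refine Fintype.mem_piFinset.2 fun j => Finset.mem_range.2 ?_
        have := Finset.mem_range.1 (Fintype.mem_piFinset.1 hb j)
        have := hab j
        omega
      · intro n hn
        refine Finset.mem_filter.2 ⟨Fintype.mem_piFinset.2 fun j => Finset.mem_range.2 ?_, fun j => Nat.le_add_left _ _⟩
        have := Finset.mem_range.1 (Fintype.mem_piFinset.1 hn j)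
        omega
      · intro β hβ
        funext j
        exact Nat.sub_add_cancel ((Finset.mem_filter.1 hβ).2 j)
      · intro n _
        funext j
        exact Nat.add_sub_cancel _ _
      · intro β hβ
        have hab := (Finset.mem_filter.1 hβ).2
        have hs : fsupp (fun j => β j - α j) + fsupp α = fsupp β := Finsupp.ext fun j => by
          simp [Nat.sub_add_cancel (hab j)]
        rw [coeff_der, hs]
        simp only [c, fsupp_apply, Nat.sub_add_cancel (hab _), nsmul_eq_mul, map_mul, map_natCast, Nat.cast_prod,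
          map_prod, Finset.prod_mul_distrib]
        ring
    · rw [show N - α j = N₀ + (N₀ - α j) by have := hαN j; omega, pow_add]
      exact Ideal.mul_mem_right _ _ (hx j)
  have h4 : ∑ α ∈ B₀, D α * ∏ j, hI.dpow (α j) (h j) -
      ∑ α ∈ B₀, χ (der α g) * ∏ j, hI.dpow (α j) (h j) ∈ E := by
    rw [← Finset.sum_sub_distrib]
    refine sum_mem fun α hα => ?_
    rw [← sub_mul]
    exact Ideal.mul_mem_right _ _ (by simpa using neg_mem (h3 α hα))
  simpa using add_mem (add_mem h1 h2) h4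

end Groth.Agent.H06Font
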